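import Cfsg.Agent.Lib.Helper12.S3TBasic

/-!
# Groups whose Sylow 2-subgroups are elementary abelian, self-centralising on each involution

The conjugation action on the Sylow 2-subgroups is sharply triply transitive.
-/

set_option autoImplicit false
set_option linter.unusedSectionVars false
set_option linter.unusedVariables false

open scoped Pointwise

namespace Cfsg.Agent.Lib.Helper12.CIT

/-- two involutions are conjugate by an involution, or commute with a common involution -/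
theorem dihedral {G : Type*} [Group G] [Finite G] {s t : G} (hs : s * s = 1) (ht : t * t = 1) :
    (∃ u, u * u = 1 ∧ u * s * u = t) ∨
      (∃ y, y ≠ 1 ∧ y * y = 1 ∧ y * s = s * y ∧ y * t = t * y) := by
  have hsi : s⁻¹ = s := inv_eq_of_mul_eq_one_left hs
  have hti : t⁻¹ = t := inv_eq_of_mul_eq_one_left ht
  set ρ := s * t with hρ
  have h1 : s * ρ * s⁻¹ = ρ⁻¹ := by
    rw [hρ, mul_inv_rev, hsi, hti, ← mul_assoc, hs, one_mul]
  have h1' : t * ρ * t⁻¹ = ρ⁻¹ := by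
    rw [hρ, mul_inv_rev, hsi, hti, mul_assoc, mul_assoc, ht, mul_one]
  have h2 : ∀ i : ℕ, s * ρ ^ i * s⁻¹ = (ρ ^ i)⁻¹ := by
    intro i
    rw [← conj_pow, h1, inv_pow]
  have h2' : ∀ i : ℕ, t * ρ ^ i * t⁻¹ = (ρ ^ i)⁻¹ := by
    intro i
    rw [← conj_pow, h1', inv_pow]
  have hpos : 0 < orderOf ρ := orderOf_pos ρ
  rcases Nat.even_or_odd' (orderOf ρ) with ⟨j, hj | hj⟩
  · right
    have hj0 : 0 < j := by omega
    have hy1 : ρ ^ j ≠ 1 := pow_ne_one_of_lt_orderOf (by omega) (by omega)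
    have hy2 : ρ ^ j * ρ ^ j = 1 := by
      rw [← pow_add, ← two_mul, ← hj]; exact pow_orderOf_eq_one ρ
    have hyi : (ρ ^ j)⁻¹ = ρ ^ j := inv_eq_of_mul_eq_one_left hy2
    refine ⟨ρ ^ j, hy1, hy2, ?_, ?_⟩
    · have := h2 j
      rw [hyi] at this
      calc ρ ^ j * s = (s * ρ ^ j * s⁻¹) * s := by rw [this]
        _ = s * ρ ^ j := by group
    · have := h2' j
      rw [hyi] at this
      calc ρ ^ j * t = (t * ρ ^ j * t⁻¹) * t := by rw [this]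
        _ = t * ρ ^ j := by group
  · left
    have hn : ρ ^ (2 * j + 1) = 1 := by rw [← hj]; exact pow_orderOf_eq_one ρ
    have hsq : s * ρ ^ (j + 1) * (s * ρ ^ (j + 1)) = 1 := by
      have := h2 (j + 1)
      rw [hsi] at this
      calc s * ρ ^ (j + 1) * (s * ρ ^ (j + 1)) = (s * ρ ^ (j + 1) * s) * ρ ^ (j + 1) := by group
        _ = 1 := by rw [this, inv_mul_cancel]
    refine ⟨s * ρ ^ (j + 1), hsq, ?_⟩
    have h3 := h2 (j + 1)
    have hvi : (s * ρ ^ (j + 1))⁻¹ = s * ρ ^ (j + 1) := inv_eq_of_mul_eq_one_left hsq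
    calc s * ρ ^ (j + 1) * s * (s * ρ ^ (j + 1))
        = s * ρ ^ (j + 1) * s * (s * ρ ^ (j + 1))⁻¹ := by rw [hvi]
      _ = s * ρ ^ (j + 1) * ((s * ρ ^ (j + 1) * s⁻¹)⁻¹) := by group
      _ = s * (ρ ^ (2 * j + 1) * ρ) := by
          rw [h3, inv_inv, mul_assoc, ← pow_add, ← pow_succ]; congr 2; ring
      _ = t := by rw [hn, one_mul, hρ, ← mul_assoc, hs, one_mul]

variable {G : Type*} [Group G] [Finite G]

omit [Finite G] in
theorem mem_smul_iff (g x : G) (P : Sylow 2 G) : x ∈ g • P ↔ g⁻¹ * x * g ∈ P := by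
  show x ∈ ((g • P : Sylow 2 G) : Subgroup G) ↔ _
  rw [Sylow.coe_subgroup_smul, Subgroup.mem_pointwise_smul_iff_inv_smul_mem]
  simp [MulAut.smul_def]
  rfl

omit [Finite G] in
theorem conj_mem_smul (g : G) {x : G} {P : Sylow 2 G} (hx : x ∈ P) : g * x * g⁻¹ ∈ g • P := by
  rw [mem_smul_iff]
  have : g⁻¹ * (g * x * g⁻¹) * g = x := by group
  rwa [this]

omit [Finite G] in
theorem conj_mem_of_fix {g : G} {x : G} {P : Sylow 2 G} (hg : g • P = P) (hx : x ∈ P) :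
    g * x * g⁻¹ ∈ P := by
  have := conj_mem_smul g hx
  rwa [hg] at this

/-- the standing hypotheses -/
structure Hyp (G : Type*) [Group G] : Prop where
  sq : ∀ (P : Sylow 2 G), ∀ a ∈ P, a * a = 1
  comm : ∀ (P : Sylow 2 G), ∀ a ∈ P, ∀ b ∈ P, a * b = b * a
  cent : ∀ (P : Sylow 2 G), ∀ t ∈ P, t ≠ 1 → ∀ x, x * t = t * x → x ∈ P
  two : ∀ (P : Sylow 2 G), ∃ a ∈ P, ∃ b ∈ P, a ≠ 1 ∧ b ≠ 1 ∧ a ≠ b

variable (H : Hyp G)
include H

omit [Finite G] in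
theorem Hyp.ti {P Q : Sylow 2 G} (hPQ : P ≠ Q) {x : G} (hP : x ∈ P) (hQ : x ∈ Q) : x = 1 := by
  by_contra hx
  apply hPQ
  have hle : (P : Subgroup G) ≤ Q := fun a ha => H.cent Q x hQ hx a (H.comm P a ha x hP)
  exact Sylow.ext (P.is_maximal' Q.isPGroup' hle).symm

omit [Finite G] H in
theorem mem_of_fix {P : Sylow 2 G} {g : G} (hg : g • P = P) (h2 : g * g = 1) : g ∈ P := by
  have h1 : IsPGroup 2 (Subgroup.zpowers g) := by
    rintro ⟨x, hx⟩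
    obtain ⟨n, rfl⟩ := Subgroup.mem_zpowers_iff.1 hx
    refine ⟨1, ?_⟩
    apply Subtype.ext
    show (g ^ n) ^ (2 ^ 1) = 1
    rw [pow_one, ← zpow_natCast, ← zpow_mul, mul_comm, zpow_mul, zpow_natCast, pow_two, h2,
      one_zpow]
  have h3 := h1.inf_normalizer_sylow P
  have h4 : g ∈ Subgroup.zpowers g ⊓ Subgroup.normalizer (P : Set G) :=
    Subgroup.mem_inf.2 ⟨Subgroup.mem_zpowers g, Sylow.smul_eq_iff_mem_normalizer.1 hg⟩
  rw [h3] at h4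
  exact (Subgroup.mem_inf.1 h4).2

omit [Finite G] H in
theorem fix_of_mem {P : Sylow 2 G} {g : G} (hg : g ∈ P) : g • P = P :=
  Sylow.smul_eq_iff_mem_normalizer.2 (Subgroup.le_normalizer hg)

omit [Finite G] in
theorem Hyp.smul_eq_of_conj {P Q : Sylow 2 G} {s u : G} (hs : s ∈ Q) (hs1 : s ≠ 1)
    (hu : u * s * u⁻¹ ∈ P) : u • Q = P := by
  by_contra hne
  have h1 := H.ti hne (conj_mem_smul u hs) hu
  apply hs1
  have : s = u⁻¹ * (u * s * u⁻¹) * u := by group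
  rw [this, h1]; group

theorem Hyp.exists_swap {P Q : Sylow 2 G} (hPQ : P ≠ Q) {s t : G} (hs : s ∈ Q) (hs1 : s ≠ 1)
    (ht : t ∈ P) (ht1 : t ≠ 1) :
    ∃ u, u * u = 1 ∧ u * s * u = t ∧ u • Q = P ∧ u • P = Q := by
  rcases dihedral (H.sq Q s hs) (H.sq P t ht) with ⟨u, hu, hust⟩ | ⟨y, hy1, -, hys, hyt⟩
  · have hui : u⁻¹ = u := inv_eq_of_mul_eq_one_left hu
    have h1 : u • Q = P := H.smul_eq_of_conj hs hs1 (by rw [hui, hust]; exact ht)
    refine ⟨u, hu, hust, h1, ?_⟩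
    rw [← h1, ← mul_smul, hu, one_smul]
  · exact absurd (H.ti hPQ (H.cent P t ht ht1 y hyt) (H.cent Q s hs hs1 y hys)) hy1

theorem Hyp.D_trans {P Q : Sylow 2 G} (hPQ : P ≠ Q) {t t' : G} (ht : t ∈ P) (ht1 : t ≠ 1)
    (ht' : t' ∈ P) (ht1' : t' ≠ 1) : ∃ d, d • P = P ∧ d • Q = Q ∧ d * t * d⁻¹ = t' := by
  obtain ⟨s, hs, -, -, hs1, -, -⟩ := H.two Q
  obtain ⟨u, hu, hust, huQ, huP⟩ := H.exists_swap hPQ hs hs1 ht ht1
  obtain ⟨u', hu', hust', huQ', huP'⟩ := H.exists_swap hPQ hs hs1 ht' ht1'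
  have hui : u⁻¹ = u := inv_eq_of_mul_eq_one_left hu
  have hui' : u'⁻¹ = u' := inv_eq_of_mul_eq_one_left hu'
  refine ⟨u' * u, by rw [mul_smul, huP, huQ'], by rw [mul_smul, huQ, huP'], ?_⟩
  rw [mul_inv_rev, hui, hui', ← hust, ← hust']
  calc u' * u * (u * s * u) * (u * u') = u' * (u * u) * s * (u * u) * u' := by group
    _ = u' * s * u' := by rw [hu]; group

theorem Hyp.swap_invol {P Q : Sylow 2 G} (hPQ : P ≠ Q) {g : G} (hgQ : g • Q = P)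
    (hgP : g • P = Q) : g * g = 1 := by
  obtain ⟨s, hs, -, -, hs1, -, -⟩ := H.two Q
  have ht : g * s * g⁻¹ ∈ P := by rw [← hgQ]; exact conj_mem_smul g hs
  have ht1 : g * s * g⁻¹ ≠ 1 := by
    intro hh
    apply hs1
    have : s = g⁻¹ * (g * s * g⁻¹) * g := by group
    rw [this, hh]; group
  obtain ⟨u, hu, hust, huQ, huP⟩ := H.exists_swap hPQ hs hs1 ht ht1
  have hui : u⁻¹ = u := inv_eq_of_mul_eq_one_left hu
  have hx : (u * g) * s = s * (u * g) := by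
    have e1 : u * (u * s * u) * u = s := by
      calc u * (u * s * u) * u = (u * u) * s * (u * u) := by group
        _ = s := by rw [hu]; group
    rw [hust] at e1
    calc (u * g) * s = (u * (g * s * g⁻¹) * u) * (u⁻¹ * g) := by group
      _ = s * (u * g) := by rw [e1, hui]
  have hxQ : u * g ∈ Q := H.cent Q s hs hs1 _ hx
  have hxP : u * g ∈ P := mem_of_fix (by rw [mul_smul, hgP, huQ]) (H.sq Q _ hxQ)
  have h1 := H.ti hPQ hxP hxQ
  have : g = u := by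
    rw [← hui]; exact (inv_eq_of_mul_eq_one_right h1).symm
  rw [this]; exact hu

theorem Hyp.D_inv {P Q : Sylow 2 G} (hPQ : P ≠ Q) {u d : G} (huQ : u • Q = P) (huP : u • P = Q)
    (hdP : d • P = P) (hdQ : d • Q = Q) : u * d * u = d⁻¹ := by
  have h1 : (u * d) * (u * d) = 1 := H.swap_invol hPQ (by rw [mul_smul, hdQ, huQ])
    (by rw [mul_smul, hdP, huP])
  have : u * d * u * d = 1 := by rw [← h1]; group
  exact eq_inv_of_mul_eq_one_left this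

theorem Hyp.exists_swap' {P Q : Sylow 2 G} (hPQ : P ≠ Q) :
    ∃ u : G, u * u = 1 ∧ u • Q = P ∧ u • P = Q := by
  obtain ⟨s, hs, -, -, hs1, -, -⟩ := H.two Q
  obtain ⟨t, ht, -, -, ht1, -, -⟩ := H.two P
  obtain ⟨u, hu, -, huQ, huP⟩ := H.exists_swap hPQ hs hs1 ht ht1
  exact ⟨u, hu, huQ, huP⟩

theorem Hyp.D_comm {P Q : Sylow 2 G} (hPQ : P ≠ Q) {k l : G} (hkP : k • P = P) (hkQ : k • Q = Q)
    (hlP : l • P = P) (hlQ : l • Q = Q) : k * l = l * k := by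
  obtain ⟨w, hw2, hwQ, hwP⟩ := H.exists_swap' hPQ
  have h1 := H.D_inv hPQ hwQ hwP hkP hkQ
  have h2 := H.D_inv hPQ hwQ hwP hlP hlQ
  have h3 := H.D_inv hPQ hwQ hwP (d := k * l) (by rw [mul_smul, hlP, hkP])
    (by rw [mul_smul, hlQ, hkQ])
  have h4 : w * (k * l) * w = (w * k * w) * (w * l * w) := by
    calc w * (k * l) * w = w * k * 1 * l * w := by group
      _ = w * k * (w * w) * l * w := by rw [hw2]
      _ = (w * k * w) * (w * l * w) := by group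
  rw [h4, h1, h2, mul_inv_rev] at h3
  have h5 : (k⁻¹ * l⁻¹)⁻¹ = (l⁻¹ * k⁻¹)⁻¹ := by rw [h3]
  simpa [mul_inv_rev] using h5.symm

theorem Hyp.N_factor {P Q : Sylow 2 G} (hPQ : P ≠ Q) {x : G} (hx : x • P = P) :
    ∃ t ∈ P, ∃ d, d • P = P ∧ d • Q = Q ∧ x = t * d := by
  obtain ⟨t₀, ht₀, -, -, ht1, -, -⟩ := H.two P
  have h1 : x * t₀ * x⁻¹ ∈ P := conj_mem_of_fix hx ht₀
  have h2 : x * t₀ * x⁻¹ ≠ 1 := by
    intro hh
    apply ht1
    have : t₀ = x⁻¹ * (x * t₀ * x⁻¹) * x := by group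
    rw [this, hh]; group
  obtain ⟨d, hdP, hdQ, hd⟩ := H.D_trans hPQ ht₀ ht1 h1 h2
  refine ⟨x * d⁻¹, ?_, d, hdP, hdQ, by group⟩
  apply H.cent P _ h1 h2
  calc x * d⁻¹ * (x * t₀ * x⁻¹) = x * d⁻¹ * (d * t₀ * d⁻¹) := by rw [hd]
    _ = (x * t₀ * x⁻¹) * (x * d⁻¹) := by group

omit [Finite G] in
theorem Hyp.D_no_invol {P Q : Sylow 2 G} (hPQ : P ≠ Q) {d : G} (hdP : d • P = P)
    (hdQ : d • Q = Q) (h2 : d * d = 1) : d = 1 :=
  H.ti hPQ (mem_of_fix hdP h2) (mem_of_fix hdQ h2)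

/-- only the identity fixes three points -/
theorem Hyp.free {P Q R : Sylow 2 G} (hPQ : P ≠ Q) (hPR : P ≠ R) (hQR : Q ≠ R) {d : G}
    (hdP : d • P = P) (hdQ : d • Q = Q) (hdR : d • R = R) : d = 1 := by
  obtain ⟨u₁, hu₁, hu₁Q, hu₁P⟩ := H.exists_swap' hPQ
  obtain ⟨u₂, hu₂, hu₂R, hu₂P⟩ := H.exists_swap' hPR
  have i1 := H.D_inv hPQ hu₁Q hu₁P hdP hdQ
  have i2 := H.D_inv hPR hu₂R hu₂P hdP hdR
  have hdPi : d⁻¹ • P = P := by rw [inv_smul_eq_iff, hdP]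
  have hdQi : d⁻¹ • Q = Q := by rw [inv_smul_eq_iff, hdQ]
  have i1' := H.D_inv hPQ hu₁Q hu₁P hdPi hdQi
  rw [inv_inv] at i1'
  -- `g = u₁ u₂` commutes with `d`
  have hg : (u₁ * u₂) * d = d * (u₁ * u₂) := by
    have e : u₁ * (u₂ * d * u₂) * u₁ = d := by rw [i2, i1']
    calc (u₁ * u₂) * d = (u₁ * (u₂ * d * u₂) * u₁) * (u₁⁻¹ * u₂⁻¹) := by group
      _ = d * (u₁ * u₂) := by
          rw [e, inv_eq_of_mul_eq_one_left hu₁, inv_eq_of_mul_eq_one_left hu₂]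
  set X : Sylow 2 G := u₁ • R with hX
  have hgP : (u₁ * u₂) • P = X := by rw [mul_smul, hu₂P]
  have hdX : d • X = X := by rw [← hgP, ← mul_smul, ← hg, mul_smul, hdP]
  have hPX : P ≠ X := by
    intro hh
    apply hQR
    have : u₁ • Q = u₁ • R := by rw [hu₁Q, hh]
    exact smul_left_cancel u₁ this
  obtain ⟨u₃, hu₃, hu₃X, hu₃P⟩ := H.exists_swap' hPX
  have i3 := H.D_inv hPX hu₃X hu₃P hdP hdX
  -- `x = u₃ g` normalises `P` and inverts `d`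
  have hxP : (u₃ * (u₁ * u₂)) • P = P := by rw [mul_smul, hgP, hu₃X]
  have hxd : (u₃ * (u₁ * u₂)) * d = d⁻¹ * (u₃ * (u₁ * u₂)) := by
    calc (u₃ * (u₁ * u₂)) * d = u₃ * ((u₁ * u₂) * d) := by group
      _ = u₃ * (d * (u₁ * u₂)) := by rw [hg]
      _ = (u₃ * d * u₃) * (u₃⁻¹ * (u₁ * u₂)) := by group
      _ = d⁻¹ * (u₃ * (u₁ * u₂)) := by rw [i3, inv_eq_of_mul_eq_one_left hu₃]
  obtain ⟨t, ht, d₀, hd₀P, hd₀Q, hx⟩ := H.N_factor hPQ hxP
  have hc : d₀ * d = d * d₀ := H.D_comm hPQ hd₀P hd₀Q hdP hdQ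
  have htd : t * d = d⁻¹ * t := by
    rw [hx] at hxd
    have e1 : t * d * d₀ = d⁻¹ * t * d₀ := by
      calc t * d * d₀ = t * (d * d₀) := by group
        _ = t * (d₀ * d) := by rw [hc]
        _ = t * d₀ * d := by group
        _ = d⁻¹ * (t * d₀) := hxd
        _ = d⁻¹ * t * d₀ := by group
    exact mul_right_cancel e1
  -- `d⁻¹ d⁻¹ ∈ P`
  have hmem : d⁻¹ * d⁻¹ ∈ P := by
    have e : d⁻¹ * d⁻¹ = (d⁻¹ * t * (d⁻¹)⁻¹) * t⁻¹ := by
      have : d⁻¹ * t = t * d := htd.symm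
      calc d⁻¹ * d⁻¹ = d⁻¹ * (d⁻¹ * t) * t⁻¹ := by group
        _ = d⁻¹ * (t * d) * t⁻¹ := by rw [this]
        _ = (d⁻¹ * t * (d⁻¹)⁻¹) * t⁻¹ := by group
    rw [e]
    exact mul_mem (conj_mem_of_fix hdPi ht) (inv_mem ht)
  have hfixQ : (d⁻¹ * d⁻¹) • Q = Q := by rw [mul_smul, hdQi, hdQi]
  have h1 : d⁻¹ * d⁻¹ = 1 := H.ti hPQ hmem (mem_of_fix hfixQ (H.sq P _ hmem))
  have h2 : d * d = 1 := by
    have : (d * d)⁻¹ = 1 := by rw [mul_inv_rev, h1]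
    exact inv_eq_one.1 this
  exact H.D_no_invol hPQ hdP hdQ h2

/-- a Sylow subgroup is transitive on the others -/
theorem Hyp.P_trans {P Q R : Sylow 2 G} (hPQ : P ≠ Q) (hPR : P ≠ R) : ∃ t ∈ P, t • Q = R := by
  obtain ⟨a, ha, b, hb, ha1, hb1, hab⟩ := H.two P
  obtain ⟨d', hd'P, hd'R, hd'⟩ := H.D_trans hPR ha ha1 hb hb1
  have hd'1 : d' ≠ 1 := by
    rintro rfl
    apply hab
    simpa using hd'
  obtain ⟨t₁, ht₁, d₁, hd₁P, hd₁Q, hfac⟩ := H.N_factor hPQ hd'P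
  have hd₁1 : d₁ ≠ 1 := by
    rintro rfl
    rw [mul_one] at hfac
    exact hd'1 (H.D_no_invol hPR hd'P hd'R (H.sq P _ (hfac ▸ ht₁)))
  have hd₁Pi : d₁⁻¹ • P = P := by rw [inv_smul_eq_iff, hd₁P]
  let φ : ↥P → ↥P := fun t =>
    ⟨t.1 * (d₁ * t.1⁻¹ * d₁⁻¹), mul_mem t.2 (conj_mem_of_fix hd₁P (inv_mem t.2))⟩
  have hinj : Function.Injective φ := by
    intro t t' htt
    have e : t.1 * (d₁ * t.1⁻¹ * d₁⁻¹) = t'.1 * (d₁ * t'.1⁻¹ * d₁⁻¹) := congrArg Subtype.val htt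
    have hc : d₁ * (t'.1⁻¹ * t.1) = (t'.1⁻¹ * t.1) * d₁ := by
      calc d₁ * (t'.1⁻¹ * t.1) = t'.1⁻¹ * (t'.1 * (d₁ * t'.1⁻¹ * d₁⁻¹)) * d₁ * t.1 := by group
        _ = t'.1⁻¹ * (t.1 * (d₁ * t.1⁻¹ * d₁⁻¹)) * d₁ * t.1 := by rw [e]
        _ = (t'.1⁻¹ * t.1) * d₁ := by group
    by_contra hne
    have hc1 : t'.1⁻¹ * t.1 ≠ 1 := by
      intro hh
      apply hne
      apply Subtype.ext
      exact (inv_mul_eq_one.1 hh).symm
    have hmem : d₁ ∈ P := H.cent P _ (mul_mem (inv_mem t'.2) t.2) hc1 d₁ hc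
    exact hd₁1 (H.D_no_invol hPQ hd₁P hd₁Q (H.sq P _ hmem))
  obtain ⟨t, ht⟩ := (Finite.injective_iff_surjective.1 hinj) ⟨t₁, ht₁⟩
  have e : t.1 * (d₁ * t.1⁻¹ * d₁⁻¹) = t₁ := congrArg Subtype.val ht
  have hconj : d₁ * t.1⁻¹ = t.1⁻¹ * d' := by
    rw [hfac, ← e]; group
  have hfix : d₁ • (t.1⁻¹ • R) = t.1⁻¹ • R := by
    rw [← mul_smul, hconj, mul_smul, hd'R]
  have hPR' : P ≠ t.1⁻¹ • R := by
    intro hh
    apply hPR
    have h1 : t.1 • P = R := (congrArg (fun X => t.1 • X) hh).trans (smul_inv_smul _ _)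
    rw [← h1, fix_of_mem t.2]
  refine ⟨t.1, t.2, ?_⟩
  by_contra hne
  have hQR' : Q ≠ t.1⁻¹ • R := by
    intro hh
    apply hne
    rw [hh, smul_inv_smul]
  exact hd₁1 (H.free hPQ hPR' hQR' hd₁P hd₁Q hfix)

theorem Hyp.D_trans_pts {P Q R R' : Sylow 2 G} (hPQ : P ≠ Q) (hPR : P ≠ R) (hQR : Q ≠ R)
    (hPR' : P ≠ R') (hQR' : Q ≠ R') : ∃ d : G, d • P = P ∧ d • Q = Q ∧ d • R = R' := by
  obtain ⟨t, ht, htQ⟩ := H.P_trans hPQ hPR
  obtain ⟨t', ht', htQ'⟩ := H.P_trans hPQ hPR'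
  have ht1 : t ≠ 1 := by
    rintro rfl
    exact hQR (by rwa [one_smul] at htQ)
  have ht1' : t' ≠ 1 := by
    rintro rfl
    exact hQR' (by rwa [one_smul] at htQ')
  obtain ⟨d, hdP, hdQ, hd⟩ := H.D_trans hPQ ht ht1 ht' ht1'
  refine ⟨d, hdP, hdQ, ?_⟩
  have e : d * t = t' * d := by rw [← hd]; group
  rw [← htQ, ← mul_smul, e, mul_smul, hdQ, htQ']

/-- the action on the Sylow 2-subgroups is sharply triply transitive -/
theorem Hyp.sharp3 : S3T.Sharp3 G (Sylow 2 G) := by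
  refine ⟨?_, ?_⟩
  · intro a b c a' b' c' hab hac hbc hab' hac' hbc'
    obtain ⟨g₁, hg₁⟩ := MulAction.exists_smul_eq G a a'
    have h1 : a' ≠ g₁ • b := by rw [← hg₁]; exact fun hh => hab (smul_left_cancel g₁ hh)
    have h2 : a' ≠ g₁ • c := by rw [← hg₁]; exact fun hh => hac (smul_left_cancel g₁ hh)
    have h3 : g₁ • b ≠ g₁ • c := fun hh => hbc (smul_left_cancel g₁ hh)
    obtain ⟨t, ht, htb⟩ := H.P_trans h1 hab'
    have hta : t • a' = a' := fix_of_mem ht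
    have h4 : a' ≠ t • g₁ • c := by
      intro hh
      rw [← hta] at hh
      exact h2 (smul_left_cancel t hh)
    have h5 : b' ≠ t • g₁ • c := by
      rw [← htb]
      exact fun hh => h3 (smul_left_cancel t hh)
    obtain ⟨d, hda, hdb, hdc⟩ := H.D_trans_pts hab' h4 h5 hac' hbc'
    refine ⟨d * t * g₁, ?_, ?_, ?_⟩
    · rw [mul_smul, mul_smul, hg₁, hta, hda]
    · rw [mul_smul, mul_smul, htb, hdb]
    · rw [mul_smul, mul_smul, hdc]
  · intro g a b c hab hac hbc ha hb hc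
    exact H.free hab hac hbc ha hb hc

theorem Hyp.card_sylow (P : Sylow 2 G) (hP : ∃ Q : Sylow 2 G, P ≠ Q) :
    Nat.card (Sylow 2 G) = Nat.card P + 1 := by
  classical
  obtain ⟨Q, hPQ⟩ := hP
  let f : ↥P → {R : Sylow 2 G // R ≠ P} := fun t => ⟨t.1 • Q, by
    intro hh
    apply hPQ
    have : t.1 • Q = t.1 • P := by rw [hh, fix_of_mem t.2]
    exact (smul_left_cancel t.1 this).symm⟩
  have hf : Function.Bijective f := by
    constructor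
    · intro t t' htt
      have e : t.1 • Q = t'.1 • Q := congrArg Subtype.val htt
      have hm : t'.1⁻¹ * t.1 ∈ P := mul_mem (inv_mem t'.2) t.2
      have hfix : (t'.1⁻¹ * t.1) • Q = Q := by rw [mul_smul, e, inv_smul_smul]
      have := H.ti hPQ hm (mem_of_fix hfix (H.sq P _ hm))
      exact Subtype.ext (inv_mul_eq_one.1 this).symm
    · rintro ⟨R, hR⟩
      obtain ⟨t, ht, htQ⟩ := H.P_trans hPQ (Ne.symm hR)
      exact ⟨⟨t, ht⟩, Subtype.ext htQ⟩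
  rw [Nat.card_congr (Equiv.optionSubtypeNe P).symm, Finite.card_option,
    ← Nat.card_congr (Equiv.ofBijective f hf)]
  rfl

end Cfsg.Agent.Lib.Helper12.CIT
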