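import Mathlib
import Cfsg.Agent.Lib.Helper6.SLGen

/-!
# The Möbius action of `SL(2,F)` on `Option F`
-/

set_option autoImplicit false
set_option linter.unusedSectionVars false
set_option linter.unusedSimpArgs false

namespace Cfsg.Agent.Lib.Helper12.L2

open Matrix

variable {F : Type*} [Field F] [DecidableEq F]

/-- homogeneous coordinates -/
def vec : Option F → F × F
  | none => (1, 0)
  | some x => (x, 1)

/-- the point with given homogeneous coordinates -/
def pt (v : F × F) : Option F := if v.2 = 0 then none else some (v.1 / v.2)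

/-- the linear action on pairs -/
def act (A : SpecialLinearGroup (Fin 2) F) (v : F × F) : F × F :=
  (A 0 0 * v.1 + A 0 1 * v.2, A 1 0 * v.1 + A 1 1 * v.2)

/-- the Möbius action -/
def mob (A : SpecialLinearGroup (Fin 2) F) (x : Option F) : Option F := pt (act A (vec x))

theorem pt_vec (x : Option F) : pt (vec x) = x := by
  cases x <;> simp [pt, vec]

theorem vec_ne_zero (x : Option F) : vec x ≠ (0, 0) := by
  cases x <;> simp [vec]

theorem pt_smul (c : F) (hc : c ≠ 0) (v : F × F) : pt (c * v.1, c * v.2) = pt v := by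
  unfold pt
  by_cases h : v.2 = 0
  · simp [h]
  · simp only [mul_eq_zero, hc, h, or_self, if_false]
    rw [mul_div_mul_left _ _ hc]

theorem vec_pt (v : F × F) (hv : v ≠ (0, 0)) : ∃ c : F, c ≠ 0 ∧ vec (pt v) = (c * v.1, c * v.2) := by
  unfold pt
  by_cases h : v.2 = 0
  · have h1 : v.1 ≠ 0 := fun h1 => hv (Prod.ext h1 h)
    refine ⟨v.1⁻¹, inv_ne_zero h1, ?_⟩
    simp [h, vec, h1]
  · refine ⟨v.2⁻¹, inv_ne_zero h, ?_⟩
    simp [h, vec, div_eq_inv_mul]

theorem act_smul (A : SpecialLinearGroup (Fin 2) F) (c : F) (v : F × F) :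
    act A (c * v.1, c * v.2) = (c * (act A v).1, c * (act A v).2) := by
  simp only [act]
  ext <;> simp <;> ring

theorem act_mul (A B : SpecialLinearGroup (Fin 2) F) (v : F × F) :
    act (A * B) v = act A (act B v) := by
  ext <;> simp [act, Matrix.mul_apply, Fin.sum_univ_two] <;> ring

theorem act_one (v : F × F) : act (1 : SpecialLinearGroup (Fin 2) F) v = v := by
  simp [act]

theorem act_ne_zero (A : SpecialLinearGroup (Fin 2) F) (v : F × F) (hv : v ≠ (0, 0)) :
    act A v ≠ (0, 0) := by
  intro h
  apply hv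
  have h1 : act (A⁻¹ * A) v = act A⁻¹ (0, 0) := by rw [act_mul, h]
  rw [inv_mul_cancel, act_one] at h1
  rw [h1]
  simp [act]

theorem mob_mul (A B : SpecialLinearGroup (Fin 2) F) (x : Option F) :
    mob (A * B) x = mob A (mob B x) := by
  unfold mob
  obtain ⟨c, hc, h⟩ := vec_pt (act B (vec x)) (act_ne_zero B _ (vec_ne_zero x))
  rw [h, act_smul, pt_smul c hc, act_mul]

theorem mob_one (x : Option F) : mob (1 : SpecialLinearGroup (Fin 2) F) x = x := by
  rw [mob, act_one, pt_vec]

/-- the Möbius action as a homomorphism to permutations -/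
def mobHom : SpecialLinearGroup (Fin 2) F →* Equiv.Perm (Option F) where
  toFun A := ⟨mob A, mob A⁻¹, fun x => by rw [← mob_mul, inv_mul_cancel, mob_one],
    fun x => by rw [← mob_mul, mul_inv_cancel, mob_one]⟩
  map_one' := by ext1 x; exact mob_one x
  map_mul' A B := by ext1 x; exact mob_mul A B x

theorem mobHom_apply (A : SpecialLinearGroup (Fin 2) F) (x : Option F) : mobHom A x = mob A x := rfl

/-- the Weyl element -/
def wS : SpecialLinearGroup (Fin 2) F := ⟨!![0, -1; 1, 0], by simp [Matrix.det_fin_two]⟩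

theorem mob_wS_none : mob (wS : SpecialLinearGroup (Fin 2) F) none = some 0 := by
  simp [mob, act, vec, pt, wS]

theorem mob_wS_zero : mob (wS : SpecialLinearGroup (Fin 2) F) (some 0) = none := by
  simp [mob, act, vec, pt, wS]

theorem mob_wS_some (x : F) (hx : x ≠ 0) :
    mob (wS : SpecialLinearGroup (Fin 2) F) (some x) = some (-x⁻¹) := by
  simp [mob, act, vec, pt, wS, hx, div_eq_mul_inv]

theorem mob_up_none (b : F) :
    mob (SpecialLinearGroup.transvection (show (0 : Fin 2) ≠ 1 by decide) b) none = none := by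
  simp [mob, act, vec, pt, SpecialLinearGroup.transvection_coe, Matrix.single_apply]

theorem mob_up_some (b x : F) :
    mob (SpecialLinearGroup.transvection (show (0 : Fin 2) ≠ 1 by decide) b) (some x)
      = some (1 * x + b) := by
  simp [mob, act, vec, pt, SpecialLinearGroup.transvection_coe, Matrix.single_apply]

theorem lo_eq (c : F) : SpecialLinearGroup.transvection (show (1 : Fin 2) ≠ 0 by decide) c
    = wS * SpecialLinearGroup.transvection (show (0 : Fin 2) ≠ 1 by decide) (-c) * wS⁻¹ := by
  rw [eq_mul_inv_iff_mul_eq]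
  ext i j
  change ((((1 : Matrix (Fin 2) (Fin 2) F) + Matrix.single 1 0 c) * !![0, -1; 1, 0] :
      Matrix (Fin 2) (Fin 2) F)) i j
    = ((!![0, -1; 1, 0] * ((1 : Matrix (Fin 2) (Fin 2) F) + Matrix.single 0 1 (-c)) :
      Matrix (Fin 2) (Fin 2) F)) i j
  fin_cases i <;> fin_cases j <;>
    simp [Matrix.mul_apply, Fin.sum_univ_two, Matrix.single_apply]

theorem mobHom_range_le (Γ : Subgroup (Equiv.Perm (Option F)))
    (hU : ∀ b : F, ∃ γ ∈ Γ, γ none = none ∧ ∀ x, γ (some x) = some (1 * x + b))
    (hW : ∃ w ∈ Γ, w none = some 0 ∧ w (some 0) = none ∧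
      ∀ x, x ≠ 0 → w (some x) = some (-x⁻¹)) :
    (mobHom : SpecialLinearGroup (Fin 2) F →* _).range ≤ Γ := by
  have hup : ∀ b : F,
      mobHom (SpecialLinearGroup.transvection (show (0 : Fin 2) ≠ 1 by decide) b) ∈ Γ := by
    intro b
    obtain ⟨γ, hγ, h1, h2⟩ := hU b
    have : mobHom (SpecialLinearGroup.transvection (show (0 : Fin 2) ≠ 1 by decide) b) = γ := by
      apply Equiv.ext
      intro x
      cases x with
      | none => rw [mobHom_apply, mob_up_none, h1]
      | some x => rw [mobHom_apply, mob_up_some, h2]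
    rw [this]; exact hγ
  have hS : mobHom (wS : SpecialLinearGroup (Fin 2) F) ∈ Γ := by
    obtain ⟨w, hw, h1, h2, h3⟩ := hW
    have : mobHom (wS : SpecialLinearGroup (Fin 2) F) = w := by
      apply Equiv.ext
      intro x
      cases x with
      | none => rw [mobHom_apply, mob_wS_none, h1]
      | some x =>
        by_cases hx : x = 0
        · subst hx; rw [mobHom_apply, mob_wS_zero, h2]
        · rw [mobHom_apply, mob_wS_some x hx, h3 x hx]
    rw [this]; exact hw
  rintro _ ⟨A, rfl⟩
  refine Cfsg.Agent.Lib.Helper6.SL_transvection_induction (fun A => mobHom A ∈ Γ) ?_ ?_ A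
  · intro i j h c
    fin_cases i <;> fin_cases j
    · exact absurd rfl h
    · exact hup c
    · show mobHom (SpecialLinearGroup.transvection (show (1 : Fin 2) ≠ 0 by decide) c) ∈ Γ
      rw [lo_eq, map_mul, map_mul, map_inv]
      exact Γ.mul_mem (Γ.mul_mem hS (hup _)) (Γ.inv_mem hS)
    · exact absurd rfl h
  · intro A B hA hB
    show mobHom (A * B) ∈ Γ
    rw [map_mul]
    exact Γ.mul_mem hA hB

theorem mobHom_ker :
    (mobHom : SpecialLinearGroup (Fin 2) F →* _).ker
      = Subgroup.center (SpecialLinearGroup (Fin 2) F) := by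
  ext A
  rw [MonoidHom.mem_ker, Matrix.SpecialLinearGroup.mem_center_iff]
  have hdet : A 0 0 * A 1 1 - A 0 1 * A 1 0 = 1 := by
    have := A.2
    rw [Matrix.det_fin_two] at this
    exact this
  constructor
  · intro h
    have h1 : mob A none = none := by rw [← mobHom_apply, h]; rfl
    have h2 : mob A (some 0) = some 0 := by rw [← mobHom_apply, h]; rfl
    have h3 : mob A (some 1) = some 1 := by rw [← mobHom_apply, h]; rfl
    have e1 : A 1 0 = 0 := by
      by_contra hne
      simp [mob, act, vec, pt, hne] at h1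
    have e4 : A 1 1 ≠ 0 := by
      intro h0
      rw [e1, h0] at hdet
      simp at hdet
    have e2 : A 0 1 = 0 := by
      simp [mob, act, vec, pt, e4] at h2
      exact h2
    have e3 : A 0 0 = A 1 1 := by
      simp [mob, act, vec, pt, e1, e2, e4] at h3
      field_simp at h3
      exact h3
    refine ⟨A 0 0, ?_, ?_⟩
    · rw [Fintype.card_fin, sq]
      rw [e1, ← e3] at hdet
      linear_combination hdet
    · ext i j
      fin_cases i <;> fin_cases j <;> simp [e1, e2, e3]
  · rintro ⟨r, hr, hA⟩
    have hr0 : r ≠ 0 := by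
      rintro rfl
      simp at hr
    have f00 : A 0 0 = r := by
      have := congrFun (congrFun hA 0) 0
      simpa using this.symm
    have f01 : A 0 1 = 0 := by
      have := congrFun (congrFun hA 0) 1
      simpa using this.symm
    have f10 : A 1 0 = 0 := by
      have := congrFun (congrFun hA 1) 0
      simpa using this.symm
    have f11 : A 1 1 = r := by
      have := congrFun (congrFun hA 1) 1
      simpa using this.symm
    apply Equiv.ext
    intro x
    rw [mobHom_apply]
    cases x with
    | none => simp [mob, act, vec, pt, f00, f01, f10, f11]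
    | some x => simp [mob, act, vec, pt, f00, f01, f10, f11, hr0]

theorem nonempty_equiv_of_range [Finite F] (Γ : Subgroup (Equiv.Perm (Option F)))
    (hle : (mobHom : SpecialLinearGroup (Fin 2) F →* _).range ≤ Γ)
    (hcard : Nat.card Γ ≤ Nat.card (ProjectiveSpecialLinearGroup (Fin 2) F)) :
    Nonempty (Γ ≃* ProjectiveSpecialLinearGroup (Fin 2) F) := by
  have e1 : ProjectiveSpecialLinearGroup (Fin 2) F ≃*
      (mobHom : SpecialLinearGroup (Fin 2) F →* _).range :=
    (QuotientGroup.quotientMulEquivOfEq mobHom_ker.symm).trans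
      (QuotientGroup.quotientKerEquivRange mobHom)
  have h1 : (mobHom : SpecialLinearGroup (Fin 2) F →* _).range = Γ := by
    apply Subgroup.eq_of_le_of_card_ge hle
    rw [← Nat.card_congr e1.toEquiv]
    exact hcard
  exact ⟨((MulEquiv.subgroupCongr h1).symm.trans e1.symm)⟩

end Cfsg.Agent.Lib.Helper12.L2
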