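import Cfsg.Agent.Lib.Helper12.S3TField
import Cfsg.Agent.Lib.Helper12.L2Mob
import Cfsg.Agent.Lib.Helper6.SLCard
import Cfsg.Agent.Lib.Helper6.SLEquiv
import Cfsg.Agent.Lib.Helper64.SemiGraph

/-!
# Sharply triply transitive actions on an odd number of points are `SL(2, 2^a)`
-/

set_option autoImplicit false
set_option linter.unusedSectionVars false
set_option linter.unusedVariables false

namespace Cfsg.Agent.Lib.Helper12.S3T

open Matrix

/-- the embedding of `Fin 3` given by three distinct points -/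
def emb3 {α : Type*} (a b c : α) (hab : a ≠ b) (hac : a ≠ c) (hbc : b ≠ c) : Fin 3 ↪ α :=
  ⟨![a, b, c], by
    intro x y hxy
    fin_cases x <;> fin_cases y <;> simp_all [Ne.symm hab, Ne.symm hac, Ne.symm hbc]⟩

theorem exists_small_field (K : Type*) [Field K] [Finite K] :
    ∃ (F : Type) (_ : Field F) (_ : Fintype F), Nonempty (F ≃+* K) := by
  let e := (Finite.equivFin K).symm
  exact ⟨Fin (Nat.card K), e.field, inferInstance, ⟨e.ringEquiv⟩⟩

variable {G α : Type*} [Group G] [MulAction G α] [Finite α]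

theorem Sharp3.card_le (h : Sharp3 G α) {i z e : α} (hiz : i ≠ z) (hie : i ≠ e) (hze : z ≠ e) :
    Finite G ∧ Nat.card G ≤ Nat.card α * (Nat.card α - 1) * (Nat.card α - 2) := by
  classical
  haveI := Fintype.ofFinite α
  let f : G → (Fin 3 ↪ α) := fun g => g • emb3 i z e hiz hie hze
  have hf : Function.Injective f := by
    intro g g' hgg
    have h0 := DFunLike.congr_fun hgg 0
    have h1 := DFunLike.congr_fun hgg 1
    have h2 := DFunLike.congr_fun hgg 2
    exact h.ext hiz hie hze h0 h1 h2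
  refine ⟨Finite.of_injective f hf, ?_⟩
  refine (Nat.card_le_card_of_injective f hf).trans (le_of_eq ?_)
  rw [Nat.card_eq_fintype_card, Fintype.card_embedding_eq, Fintype.card_fin,
    Nat.card_eq_fintype_card]
  simp [Nat.descFactorial]
  ring

theorem card_psl_even (K : Type*) [Field K] [Fintype K] (hK : Even (Fintype.card K)) :
    Nat.card (ProjectiveSpecialLinearGroup (Fin 2) K)
      = (Fintype.card K + 1) * Fintype.card K * (Fintype.card K - 1) := by
  have h := Cfsg.Agent.Lib.Helper6.card_PSL_field (F := K) 2 (by norm_num)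
  rw [Fin.prod_univ_two] at h
  obtain ⟨m, hm⟩ := hK
  have hq : 1 < Fintype.card K := Fintype.one_lt_card
  set q := Fintype.card K with hqdef
  have hm0 : 0 < m := by omega
  obtain ⟨k, rfl⟩ : ∃ k, m = k + 1 := ⟨m - 1, by omega⟩
  have h1 : q - 1 = 2 * k + 1 := by omega
  have h2 : Nat.gcd 2 (2 * k + 1) = 1 := by
    rw [Nat.gcd_comm, Nat.gcd_rec]
    simp [Nat.add_mod]
  have h3 : q ^ 2 - q ^ ((0 : Fin 2) : ℕ) = (2 * k + 1) * (q + 1) := by
    apply Nat.sub_eq_of_eq_add
    have : q = 2 * k + 2 := by omega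
    rw [this]; simp; ring
  have h4 : q ^ 2 - q ^ ((1 : Fin 2) : ℕ) = (2 * k + 1) * q := by
    apply Nat.sub_eq_of_eq_add
    have : q = 2 * k + 2 := by omega
    rw [this]; simp; ring
  rw [h1, h2, h3, h4, one_mul] at h
  have h5 : (2 * k + 1) * Nat.card (ProjectiveSpecialLinearGroup (Fin 2) K)
      = (2 * k + 1) * ((q + 1) * q * (2 * k + 1)) := by
    rw [h]; ring
  rw [h1]
  exact Nat.eq_of_mul_eq_mul_left (by omega) h5

theorem Frame.main (D : Frame G α) :
    letI := D.field
    Nonempty (G ≃* ProjectiveSpecialLinearGroup (Fin 2) D.A) := by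
  classical
  letI := D.field
  let e0 : α ≃ Option D.A := (Equiv.optionSubtypeNe D.i).symm
  have e0i : e0 D.i = none := Equiv.optionSubtypeNe_symm_self D.i
  have e0x : ∀ (x : α) (hx : x ≠ D.i), e0 x = some ⟨x, hx⟩ :=
    fun x hx => Equiv.optionSubtypeNe_symm_of_ne hx
  have s0n : e0.symm none = D.i := Equiv.optionSubtypeNe_none D.i
  have s0x : ∀ x : D.A, e0.symm (some x) = x.1 := fun x => Equiv.optionSubtypeNe_some D.i x
  let ρ : G →* Equiv.Perm (Option D.A) :=
    (e0.permCongrHom.toMonoidHom).comp (MulAction.toPermHom G α)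
  have hρ : ∀ g x, ρ g x = e0 (g • e0.symm x) := fun g x => rfl
  have hinj : Function.Injective ρ := by
    rw [injective_iff_map_eq_one]
    intro g hg
    have key : ∀ x : α, g • x = x := by
      intro x
      have := hρ g (e0 x)
      rw [hg, Equiv.symm_apply_apply] at this
      exact (e0.injective this).symm
    exact D.sharp.free g D.i D.z D.e D.hiz D.hie D.hze (key _) (key _) (key _)
  have hU : ∀ b : D.A, ∃ γ ∈ ρ.range, γ none = none ∧ ∀ x, γ (some x) = some (1 * x + b) := by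
    intro b
    refine ⟨ρ (D.T b), ⟨_, rfl⟩, ?_, ?_⟩
    · rw [hρ, s0n, (D.T_N b).1, e0i]
    · intro x
      rw [hρ, s0x, e0x _ ((D.T_N b).ne x.2), one_mul, add_comm]
      rfl
  obtain ⟨w, hwi, hwz, hwe⟩ := D.sharp.trans D.i D.z D.e D.z D.i D.e D.hiz D.hie D.hze
    (Ne.symm D.hiz) D.hze D.hie
  have hw2 : w * w = 1 := swap_sq D.sharp D.odd D.hiz D.hie D.hze hwi hwz
  have hW : ∃ w ∈ ρ.range, w none = some 0 ∧ w (some 0) = none ∧
      ∀ x : D.A, x ≠ 0 → w (some x) = some (-x⁻¹) := by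
    refine ⟨ρ w, ⟨_, rfl⟩, ?_, ?_, ?_⟩
    · rw [hρ, s0n, hwi, e0x _ (Ne.symm D.hiz)]
      rfl
    · rw [hρ, s0x]
      show e0 (w • D.z) = none
      rw [hwz, e0i]
    · intro x hx
      have hx' : x.1 ≠ D.z := fun hh => hx (Subtype.ext hh)
      have h1 : w * D.S x * w = (D.S x)⁻¹ :=
        swap_inverts D.sharp D.odd D.hiz D.hie D.hze hwi hwz (D.S_i x) (D.S_z x)
      have h2 : w • x.1 = (D.inv x).1 := by
        rw [D.inv_val_of_ne hx', ← h1, mul_smul, mul_smul, hwe, D.S_e x hx']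
      rw [hρ, s0x, h2, e0x _ (D.inv x).2]
      rfl
  have hle := L2.mobHom_range_le ρ.range hU hW
  haveI : Fintype D.A := Fintype.ofFinite _
  have hcα : Nat.card α = Fintype.card D.A + 1 := by
    rw [Nat.card_congr e0, Finite.card_option, Nat.card_eq_fintype_card]
  have heven : Even (Fintype.card D.A) := by
    have := D.odd
    rw [hcα] at this
    exact (Nat.even_add_one.not_left.1 (Nat.not_even_iff_odd.2 this))
  obtain ⟨hfin, hcG⟩ := D.sharp.card_le D.hiz D.hie D.hze
  have hcard : Nat.card ρ.range ≤ Nat.card (ProjectiveSpecialLinearGroup (Fin 2) D.A) := by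
    rw [← Nat.card_congr (MonoidHom.ofInjective hinj).toEquiv, card_psl_even D.A heven]
    refine hcG.trans (le_of_eq ?_)
    rw [hcα]
    simp
  obtain ⟨E⟩ := L2.nonempty_equiv_of_range ρ.range hle hcard
  exact ⟨(MonoidHom.ofInjective hinj).trans E⟩

theorem Frame.charTwo (D : Frame G α) : letI := D.field; CharP D.A 2 := by
  letI := D.field
  apply CharTwo.of_one_ne_zero_of_two_eq_zero one_ne_zero
  rw [← one_add_one_eq_two]
  exact D.add_self' D.one

/-- main theorem -/
theorem Sharp3.main (h : Sharp3 G α) (hodd : Odd (Nat.card α)) (h3 : 3 ≤ Nat.card α) :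
    ∃ (F : Type) (_ : Field F) (_ : Fintype F), CharP F 2 ∧ Nat.card α = Fintype.card F + 1 ∧
      Nonempty (G ≃* ProjectiveSpecialLinearGroup (Fin 2) F) ∧
      Nonempty (G ≃* SpecialLinearGroup (Fin 2) F) := by
  classical
  haveI := Fintype.ofFinite α
  have h3' : 2 < (Finset.univ : Finset α).card := by
    rw [Finset.card_univ, ← Nat.card_eq_fintype_card]; omega
  obtain ⟨i, -, z, -, e, -, hiz, hie, hze⟩ := Finset.two_lt_card.1 h3'
  let D : Frame G α := ⟨i, z, e, hiz, hie, hze, h, hodd⟩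
  letI := D.field
  haveI := D.charTwo
  obtain ⟨E⟩ := D.main
  obtain ⟨F, iF, iFt, ⟨r⟩⟩ := exists_small_field D.A
  haveI : CharP F 2 := charP_of_injective_ringHom (f := (r.symm : D.A →+* F)) r.symm.injective 2
  have E2 : G ≃* ProjectiveSpecialLinearGroup (Fin 2) F :=
    E.trans (Cfsg.Agent.Lib.Helper6.pslEquiv r).symm
  obtain ⟨E3⟩ := Cfsg.Agent.Lib.Helper64.psl2_equiv_sl2 F
  refine ⟨F, iF, iFt, inferInstance, ?_, ⟨E2⟩, ⟨E2.trans E3⟩⟩
  rw [Nat.card_congr (Equiv.optionSubtypeNe D.i).symm, Finite.card_option,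
    ← Nat.card_congr r.toEquiv, Nat.card_eq_fintype_card]

end Cfsg.Agent.Lib.Helper12.S3T
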