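import Cfsg.Agent.Lib.Helper12.CIT
import Cfsg.Agent.Lib.Helper12.S3TMain

/-!
# Groups in which centralisers of involutions are elementary abelian 2-groups
-/

set_option autoImplicit false
set_option linter.unusedSectionVars false
set_option linter.unusedVariables false

namespace Cfsg.Agent.Lib.Helper12.CIT

open Matrix

variable {G : Type*} [Group G] [Finite G]

theorem exists_central_invol (P : Sylow 2 G) (hP : (P : Subgroup G) ≠ ⊥) :
    ∃ z : G, orderOf z = 2 ∧ (P : Subgroup G) ≤ Subgroup.centralizer {z} := by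
  haveI : Fact (Nat.Prime 2) := ⟨Nat.prime_two⟩
  haveI : Nontrivial (P : Subgroup G) := (Subgroup.nontrivial_iff_ne_bot _).2 hP
  haveI := P.isPGroup'.center_nontrivial
  have hp : IsPGroup 2 (Subgroup.center (P : Subgroup G)) := P.isPGroup'.to_subgroup _
  obtain ⟨n, hn, hcard⟩ := (hp.nontrivial_iff_card).1 inferInstance
  have hdvd : 2 ∣ Nat.card (Subgroup.center (P : Subgroup G)) := by
    rw [hcard]; exact dvd_pow_self 2 (by omega)
  obtain ⟨x, hx⟩ := exists_prime_orderOf_dvd_card' 2 hdvd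
  refine ⟨((x : (P : Subgroup G)) : G), ?_, ?_⟩
  · rw [Subgroup.orderOf_coe, Subgroup.orderOf_coe, hx]
  · intro a ha
    rw [Subgroup.mem_centralizer_singleton_iff]
    have := (Subgroup.mem_center_iff.1 x.2) ⟨a, ha⟩
    exact congrArg Subtype.val this

theorem hyp_of (T : Sylow 2 G) (hnc : ¬ IsCyclic (T : Subgroup G))
    (hC : ∀ t : G, orderOf t = 2 → IsMulCommutative (Subgroup.centralizer ({t} : Set G)) ∧
      ∀ c ∈ Subgroup.centralizer ({t} : Set G), c ^ 2 = 1) : Hyp G := by
  haveI : Fact (Nat.Prime 2) := ⟨Nat.prime_two⟩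
  have hpg : ∀ t : G, orderOf t = 2 → IsPGroup 2 (Subgroup.centralizer ({t} : Set G)) := by
    intro t ht c
    refine ⟨1, ?_⟩
    apply Subtype.ext
    show (c : G) ^ (2 ^ 1) = 1
    rw [pow_one]
    exact (hC t ht).2 c c.2
  have hTbot : (T : Subgroup G) ≠ ⊥ := by
    intro hh
    apply hnc
    rw [hh]
    infer_instance
  have h2 : 2 ∣ Nat.card G := by
    haveI : Nontrivial (T : Subgroup G) := (Subgroup.nontrivial_iff_ne_bot _).2 hTbot
    obtain ⟨n, hn, hcard⟩ := (T.isPGroup'.nontrivial_iff_card).1 inferInstance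
    have h1 : 2 ∣ Nat.card (T : Subgroup G) := by rw [hcard]; exact dvd_pow_self 2 (by omega)
    exact h1.trans (Subgroup.card_subgroup_dvd_card _)
  have key : ∀ P : Sylow 2 G, ∃ z : G, orderOf z = 2 ∧ Subgroup.centralizer {z} = (P : Subgroup G) := by
    intro P
    obtain ⟨z, hz, hle⟩ := exists_central_invol P (P.ne_bot_of_dvd_card h2)
    exact ⟨z, hz, P.is_maximal' (hpg z hz) hle⟩
  have hsq : ∀ (P : Sylow 2 G), ∀ a ∈ P, a * a = 1 := by
    intro P a ha
    obtain ⟨z, hz, hzP⟩ := key P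
    rw [← pow_two]
    exact (hC z hz).2 a (hzP ▸ ha)
  have hcomm : ∀ (P : Sylow 2 G), ∀ a ∈ P, ∀ b ∈ P, a * b = b * a := by
    intro P a ha b hb
    obtain ⟨z, hz, hzP⟩ := key P
    have ha' : a ∈ Subgroup.centralizer {z} := hzP ▸ ha
    have hb' : b ∈ Subgroup.centralizer {z} := hzP ▸ hb
    exact congrArg Subtype.val ((hC z hz).1.is_comm.comm ⟨a, ha'⟩ ⟨b, hb'⟩)
  refine ⟨hsq, hcomm, ?_, ?_⟩
  · intro P t ht ht1 x hx
    have hot : orderOf t = 2 := orderOf_eq_prime (by rw [pow_two]; exact hsq P t ht) ht1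
    have hle : (P : Subgroup G) ≤ Subgroup.centralizer {t} := by
      intro a ha
      rw [Subgroup.mem_centralizer_singleton_iff]
      exact hcomm P a ha t ht
    have := P.is_maximal' (hpg t hot) hle
    have hx' : x ∈ Subgroup.centralizer {t} := Subgroup.mem_centralizer_singleton_iff.2 hx
    rw [this] at hx'
    exact hx'
  · intro P
    have hcard : Nat.card (P : Subgroup G) = Nat.card (T : Subgroup G) := by
      rw [Sylow.card_eq_multiplicity, Sylow.card_eq_multiplicity]
    have h3 : 2 < Nat.card (P : Subgroup G) := by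
      rw [hcard]
      by_contra hlt
      have hpos : 0 < Nat.card (T : Subgroup G) := Nat.card_pos
      have : Nat.card (T : Subgroup G) = 1 ∨ Nat.card (T : Subgroup G) = 2 := by omega
      rcases this with h1 | h1
      · exact hTbot ((Subgroup.card_eq_one).1 h1)
      · exact hnc (isCyclic_of_prime_card h1)
    haveI := Fintype.ofFinite (P : Subgroup G)
    rw [Nat.card_eq_fintype_card] at h3
    obtain ⟨a, b, c, hab, hac, hbc⟩ := Fintype.two_lt_card_iff.1 h3
    have hv : ∀ {x y : (P : Subgroup G)}, x ≠ y → x.1 ≠ y.1 := fun h hh => h (Subtype.ext hh)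
    by_cases ha : a.1 = 1
    · refine ⟨b.1, b.2, c.1, c.2, ?_, ?_, hv hbc⟩
      · exact fun hh => hv hab (ha.trans hh.symm)
      · exact fun hh => hv hac (ha.trans hh.symm)
    · by_cases hb : b.1 = 1
      · exact ⟨a.1, a.2, c.1, c.2, ha, fun hh => hv hbc (hb.trans hh.symm), hv hac⟩
      · exact ⟨a.1, a.2, b.1, b.2, ha, hb, hv hab⟩

theorem main (T : Sylow 2 G) (hnc : ¬ IsCyclic (T : Subgroup G)) (hnn : ¬ (T : Subgroup G).Normal)
    (hC : ∀ t : G, orderOf t = 2 → IsMulCommutative (Subgroup.centralizer ({t} : Set G)) ∧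
      ∀ c ∈ Subgroup.centralizer ({t} : Set G), c ^ 2 = 1) :
    ∃ (F : Type) (_ : Field F) (_ : Fintype F), CharP F 2 ∧ Fintype.card F = Nat.card T ∧
      Nonempty (G ≃* ProjectiveSpecialLinearGroup (Fin 2) F) := by
  haveI : Fact (Nat.Prime 2) := ⟨Nat.prime_two⟩
  have H := hyp_of T hnc hC
  have hQ : ∃ Q : Sylow 2 G, T ≠ Q := by
    by_contra hh
    push Not at hh
    haveI : Subsingleton (Sylow 2 G) := ⟨fun a b => (hh a).symm.trans (hh b)⟩
    exact hnn (Sylow.normal_of_subsingleton T)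
  have hcard := H.card_sylow T hQ
  have hodd : Odd (Nat.card (Sylow 2 G)) := by
    have := card_sylow_modEq_one 2 G
    rw [Nat.odd_iff]
    exact this
  have h3 : 3 ≤ Nat.card (Sylow 2 G) := by
    obtain ⟨a, ha, b, hb, ha1, hb1, hab⟩ := H.two T
    have : 1 < Nat.card T := by
      rw [Finite.one_lt_card_iff_nontrivial]
      exact ⟨⟨a, ha⟩, 1, fun hh => ha1 (congrArg Subtype.val hh)⟩
    omega
  obtain ⟨F, iF, iFt, hch, hc, hE, -⟩ := H.sharp3.main hodd h3
  exact ⟨F, iF, iFt, hch, by omega, hE⟩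

end Cfsg.Agent.Lib.Helper12.CIT
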