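import Cfsg.Agent.Lib.Helper12.FA5
import Cfsg.Agent.Lib.Helper12.CITMain
import Cfsg.Agent.S0183
import Cfsg.Agent.S0215

/-!
# Simple groups in which commuting is transitive on the non-identity elements
-/

set_option autoImplicit false
set_option linter.unusedSectionVars false
set_option linter.unusedVariables false

open Cfsg

namespace Cfsg.Agent.Lib.Helper12.CT

variable {G : Type*} [Group G]

/-- commuting is transitive on the non-identity elements -/
def IsCT (G : Type*) [Group G] : Prop :=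
  ∀ a b c : G, a ≠ 1 → b ≠ 1 → c ≠ 1 → Commute a b → Commute b c → Commute a c

theorem IsCT.cent_comm (h : IsCT G) {x : G} (hx : x ≠ 1) :
    ∀ a ∈ Subgroup.centralizer ({x} : Set G), ∀ b ∈ Subgroup.centralizer ({x} : Set G),
      a * b = b * a := by
  intro a ha b hb
  rw [Subgroup.mem_centralizer_singleton_iff] at ha hb
  by_cases ha1 : a = 1
  · rw [ha1, one_mul, mul_one]
  by_cases hb1 : b = 1
  · rw [hb1, one_mul, mul_one]
  exact h a x b ha1 hx hb1 ha hb.symm

theorem IsCT.cent_le (h : IsCT G) {x k : G} (hx : x ≠ 1)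
    (hk : k ∈ Subgroup.centralizer ({x} : Set G)) (hk1 : k ≠ 1) :
    Subgroup.centralizer ({k} : Set G) ≤ Subgroup.centralizer ({x} : Set G) := by
  intro y hy
  rw [Subgroup.mem_centralizer_singleton_iff] at hk hy ⊢
  by_cases hy1 : y = 1
  · rw [hy1, one_mul, mul_one]
  exact h y k x hy1 hk1 hx hy hk

theorem self_mem_cent (x : G) : x ∈ Subgroup.centralizer ({x} : Set G) :=
  Subgroup.mem_centralizer_singleton_iff.2 rfl

variable [Finite G] [IsSimpleGroup G]

theorem IsCT.cent_ne_top (h : IsCT G) (hG : ¬ IsMulCommutative G) {x : G} (hx : x ≠ 1) :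
    Subgroup.centralizer ({x} : Set G) ≠ ⊤ := by
  intro hh
  apply hG
  refine ⟨⟨fun a b => h.cent_comm hx a ?_ b ?_⟩⟩ <;> rw [hh] <;> exact Subgroup.mem_top _

theorem IsCT.two_dvd (h : IsCT G) (hG : ¬ IsMulCommutative G) : 2 ∣ Nat.card G := by
  by_contra hodd
  have hodd' : Odd (Nat.card G) := Nat.not_even_iff_odd.1 (fun hh => hodd hh.two_dvd)
  have hCN : IsCNGroup G := by
    intro g hg
    refine ⟨⟨1, Subgroup.upperCentralSeries_one_eq_top_iff.2 ⟨⟨fun a b => ?_⟩⟩⟩⟩
    exact Subtype.ext (h.cent_comm hg a a.2 b b.2)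
  have hs := Cfsg.Agent.S0183.result hodd' hCN
  exact hG ⟨⟨IsSimpleGroup.comm_iff_isSolvable.2 hs⟩⟩

theorem IsCT.conj_invol (h : IsCT G) (hG : ¬ IsMulCommutative G) {s t : G} (hs1 : s ≠ 1)
    (hs : s * s = 1) (ht1 : t ≠ 1) (ht : t * t = 1) : ∃ g : G, g * t * g⁻¹ = s := by
  by_contra hnc
  have key : ∀ x : G, x * s * x⁻¹ ∈ Subgroup.centralizer ({t} : Set G) := by
    intro x
    have hs' : x * s * x⁻¹ * (x * s * x⁻¹) = 1 := by
      calc x * s * x⁻¹ * (x * s * x⁻¹) = x * (s * s) * x⁻¹ := by group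
        _ = 1 := by rw [hs]; group
    have hs1' : x * s * x⁻¹ ≠ 1 := by
      intro hh
      apply hs1
      have : s = x⁻¹ * (x * s * x⁻¹) * x := by group
      rw [this, hh]; group
    rcases CIT.dihedral hs' ht with ⟨u, hu, hust⟩ | ⟨y, hy1, -, hys, hyt⟩
    · exfalso
      apply hnc
      have hui : u⁻¹ = u := inv_eq_of_mul_eq_one_left hu
      refine ⟨(u * x)⁻¹, ?_⟩
      rw [← hust]
      nth_rewrite 3 [← hui]
      group
    · rw [Subgroup.mem_centralizer_singleton_iff]
      exact h _ y t hs1' hy1 ht1 hys.symm hyt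
  have hle : Subgroup.normalClosure ({s} : Set G) ≤ Subgroup.centralizer ({t} : Set G) := by
    rw [Subgroup.normalClosure, Subgroup.closure_le]
    intro a ha
    obtain ⟨x, hx, hxa⟩ := Group.mem_conjugatesOfSet_iff.1 ha
    rw [Set.mem_singleton_iff] at hx
    subst hx
    obtain ⟨c, rfl⟩ := isConj_iff.1 hxa
    exact key c
  rcases (Subgroup.normalClosure_normal (s := ({s} : Set G))).eq_bot_or_eq_top with hb | htop
  · apply hs1
    have : s ∈ Subgroup.normalClosure ({s} : Set G) :=
      Subgroup.subset_normalClosure (Set.mem_singleton s)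
    rw [hb] at this
    exact Subgroup.mem_bot.1 this
  · apply h.cent_ne_top hG ht1
    rw [htop] at hle
    exact top_le_iff.1 hle

theorem IsCT.gdata (h : IsCT G) (hG : ¬ IsMulCommutative G) {t : G} (ht1 : t ≠ 1)
    (ht : t * t = 1) : FA.GData (Subgroup.centralizer ({t} : Set G)) t where
  comm := h.cent_comm ht1
  cent := fun k hk hk1 => h.cent_le ht1 hk hk1
  tK := self_mem_cent t
  t1 := ht1
  t2 := ht
  tr := by
    intro s hs hs1 hs2
    obtain ⟨g, hg⟩ := h.conj_invol hG hs1 hs2 ht1 ht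
    refine ⟨g, ?_, hg⟩
    have hst : s * t = t * s := Subgroup.mem_centralizer_singleton_iff.1 hs
    have hiff : ∀ y : G, y ∈ Subgroup.centralizer ({t} : Set G) ↔
        y ∈ Subgroup.centralizer ({s} : Set G) := by
      intro y
      constructor
      · intro hy
        exact Subgroup.mem_centralizer_singleton_iff.2 (h.cent_comm ht1 y hy s hs)
      · intro hy
        exact h.cent_le ht1 hs hs1 hy
    rw [Subgroup.mem_normalizer_iff]
    intro y
    rw [hiff (g * y * g⁻¹), Subgroup.mem_centralizer_singleton_iff,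
      Subgroup.mem_centralizer_singleton_iff, ← hg]
    constructor
    · intro hy
      calc g * y * g⁻¹ * (g * t * g⁻¹) = g * (y * t) * g⁻¹ := by group
        _ = g * (t * y) * g⁻¹ := by rw [hy]
        _ = g * t * g⁻¹ * (g * y * g⁻¹) := by group
    · intro hy
      calc y * t = g⁻¹ * (g * y * g⁻¹ * (g * t * g⁻¹)) * g := by group
        _ = g⁻¹ * (g * t * g⁻¹ * (g * y * g⁻¹)) * g := by rw [hy]
        _ = t * y := by group

theorem IsCT.exists_second (h : IsCT G) (hG : ¬ IsMulCommutative G) {t : G} (ht1 : t ≠ 1)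
    (ht : t * t = 1) :
    ∃ s ∈ Subgroup.centralizer ({t} : Set G), s ≠ 1 ∧ s ≠ t ∧ s * s = 1 := by
  by_contra hno
  have huniq : ∀ s ∈ Subgroup.centralizer ({t} : Set G), s ≠ 1 → s * s = 1 → s = t := by
    intro s hs hs1 hs2
    by_contra hst
    exact hno ⟨s, hs, hs1, hst, hs2⟩
  haveI : Fact (Nat.Prime 2) := ⟨Nat.prime_two⟩
  have hot : orderOf t = 2 := orderOf_eq_prime (by rw [pow_two, ht]) ht1
  have hpg : IsPGroup 2 (Subgroup.zpowers t) :=
    IsPGroup.of_card (n := 1) (by rw [Nat.card_zpowers, hot, pow_one])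
  obtain ⟨P, hP⟩ := hpg.exists_le_sylow
  have htP : t ∈ P := hP (Subgroup.mem_zpowers t)
  have hPbot : (P : Subgroup G) ≠ ⊥ := by
    intro hh
    apply ht1
    have : t ∈ (P : Subgroup G) := htP
    rw [hh] at this
    exact Subgroup.mem_bot.1 this
  obtain ⟨z, hz, hPz⟩ := CIT.exists_central_invol P hPbot
  have hz1 : z ≠ 1 := by
    rintro rfl
    rw [orderOf_one] at hz
    omega
  have hz2 : z * z = 1 := by
    rw [← pow_two, ← hz]
    exact pow_orderOf_eq_one z
  have hzt : z = t := by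
    apply huniq z _ hz1 hz2
    rw [Subgroup.mem_centralizer_singleton_iff]
    exact (Subgroup.mem_centralizer_singleton_iff.1 (hPz htP)).symm
  subst hzt
  have hiso : ∀ g : G, g * z * g⁻¹ ∈ P → g * z * g⁻¹ = z := by
    intro g hg
    apply huniq _ (hPz hg)
    · intro hh
      apply ht1
      have : z = g⁻¹ * (g * z * g⁻¹) * g := by group
      rw [this, hh]; group
    · calc g * z * g⁻¹ * (g * z * g⁻¹) = g * (z * z) * g⁻¹ := by group
        _ = 1 := by rw [ht]; group
  obtain ⟨N, hN, hNodd, hNc⟩ := Cfsg.Agent.S0215.result P z hot htP hiso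
  rcases hN.eq_bot_or_eq_top with hb | htop
  · apply h.cent_ne_top hG ht1
    rw [eq_top_iff]
    intro g _
    rw [Subgroup.mem_centralizer_singleton_iff]
    have := hNc g
    rw [hb, Subgroup.mem_bot] at this
    calc g * z = (z * g * z⁻¹ * g⁻¹)⁻¹ * (z * g) := by group
      _ = z * g := by rw [this, inv_one, one_mul]
  · rw [htop, Subgroup.card_top] at hNodd
    exact (Nat.not_even_iff_odd.2 hNodd) (even_iff_two_dvd.2 (h.two_dvd hG))

theorem IsCT.sq_one (h : IsCT G) (hG : ¬ IsMulCommutative G) {t : G} (ht1 : t ≠ 1)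
    (ht : t * t = 1) : ∀ u ∈ Subgroup.centralizer ({t} : Set G), u * u = 1 := by
  classical
  intro u hu
  by_contra hu2
  letI : Fintype G := Fintype.ofFinite G
  obtain ⟨s, hs, hs1, hst, hs2⟩ := h.exists_second hG ht1 ht
  have hex : ∃ g₀ : G, g₀ ∉ Subgroup.normalizer ((Subgroup.centralizer ({t} : Set G) : Subgroup G) : Set G) := by
    by_contra hall
    push Not at hall
    have htop : Subgroup.normalizer ((Subgroup.centralizer ({t} : Set G) : Subgroup G) : Set G) = ⊤ :=
      eq_top_iff.2 (fun g _ => hall g)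
    have hn : (Subgroup.centralizer ({t} : Set G)).Normal := Subgroup.normalizer_eq_top_iff.1 htop
    rcases hn.eq_bot_or_eq_top with hb | htp
    · apply ht1
      have := self_mem_cent t
      rw [hb] at this
      exact Subgroup.mem_bot.1 this
    · exact h.cent_ne_top hG ht1 htp
  obtain ⟨g₀, hg₀⟩ := hex
  exact (h.gdata hG ht1 ht).false_of hs hs1 hst hs2 hu hu2 hg₀

theorem not_cyclic_of_three {H : Subgroup G} {s t : G} (hs : s ∈ H) (ht : t ∈ H) (hs1 : s ≠ 1)
    (ht1 : t ≠ 1) (hst : s ≠ t) (hs2 : s * s = 1) (ht2 : t * t = 1) : ¬ IsCyclic H := by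
  classical
  intro hc
  letI : Fintype H := Fintype.ofFinite H
  have h1 := IsCyclic.card_pow_eq_one_le (α := H) (n := 2) (by norm_num)
  have h2 : 2 < (Finset.univ.filter (fun a : H => a ^ 2 = 1)).card := by
    rw [Finset.two_lt_card_iff]
    refine ⟨1, ⟨s, hs⟩, ⟨t, ht⟩, by simp, ?_, ?_, ?_, ?_, ?_⟩
    · simp only [Finset.mem_filter, Finset.mem_univ, true_and]
      exact Subtype.ext (by simpa [pow_two] using hs2)
    · simp only [Finset.mem_filter, Finset.mem_univ, true_and]
      exact Subtype.ext (by simpa [pow_two] using ht2)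
    · intro hh
      exact hs1 (congrArg Subtype.val hh).symm
    · intro hh
      exact ht1 (congrArg Subtype.val hh).symm
    · intro hh
      exact hst (congrArg Subtype.val hh)
  omega

theorem IsCT.main (h : IsCT G) (hG : ¬ IsMulCommutative G) :
    ∃ (F : Type) (_ : Field F) (_ : Fintype F) (f : ℕ), 2 ≤ f ∧ Fintype.card F = 2 ^ f ∧
      Nonempty (G ≃* Matrix.ProjectiveSpecialLinearGroup (Fin 2) F) := by
  haveI : Fact (Nat.Prime 2) := ⟨Nat.prime_two⟩
  obtain ⟨t, hot⟩ := exists_prime_orderOf_dvd_card' 2 (h.two_dvd hG)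
  have ht1 : t ≠ 1 := by
    rintro rfl
    rw [orderOf_one] at hot
    omega
  have ht2 : t * t = 1 := by
    rw [← pow_two, ← hot]
    exact pow_orderOf_eq_one t
  obtain ⟨s, hs, hs1, hst, hs2⟩ := h.exists_second hG ht1 ht2
  have hpg : IsPGroup 2 (Subgroup.centralizer ({t} : Set G)) := by
    intro c
    refine ⟨1, ?_⟩
    apply Subtype.ext
    show (c : G) ^ (2 ^ 1) = 1
    rw [pow_one, pow_two]
    exact h.sq_one hG ht1 ht2 c c.2
  obtain ⟨T, hT⟩ := hpg.exists_le_sylow
  have hnc : ¬ IsCyclic (T : Subgroup G) :=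
    not_cyclic_of_three (hT hs) (hT (self_mem_cent t)) hs1 ht1 hst hs2 ht2
  have hTbot : (T : Subgroup G) ≠ ⊥ := by
    intro hh
    apply ht1
    have : t ∈ (T : Subgroup G) := hT (self_mem_cent t)
    rw [hh] at this
    exact Subgroup.mem_bot.1 this
  have hnn : ¬ (T : Subgroup G).Normal := by
    intro hn
    rcases hn.eq_bot_or_eq_top with hb | htop
    · exact hTbot hb
    · obtain ⟨z, hz, hTz⟩ := CIT.exists_central_invol T hTbot
      have hz1 : z ≠ 1 := by
        rintro rfl
        rw [orderOf_one] at hz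
        omega
      apply h.cent_ne_top hG hz1
      rw [htop] at hTz
      exact top_le_iff.1 hTz
  have hC : ∀ t : G, orderOf t = 2 → IsMulCommutative (Subgroup.centralizer ({t} : Set G)) ∧
      ∀ c ∈ Subgroup.centralizer ({t} : Set G), c ^ 2 = 1 := by
    intro x hx
    have hx1 : x ≠ 1 := by
      rintro rfl
      rw [orderOf_one] at hx
      omega
    have hx2 : x * x = 1 := by
      rw [← pow_two, ← hx]
      exact pow_orderOf_eq_one x
    refine ⟨⟨⟨fun a b => Subtype.ext (h.cent_comm hx1 a a.2 b b.2)⟩⟩, ?_⟩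
    intro c hc
    rw [pow_two]
    exact h.sq_one hG hx1 hx2 c hc
  obtain ⟨F, i1, i2, -, hcard, hiso⟩ := CIT.main T hnc hnn hC
  obtain ⟨f, hf⟩ := IsPGroup.iff_card.1 T.isPGroup'
  refine ⟨F, i1, i2, f, ?_, hcard.trans hf, hiso⟩
  by_contra hlt
  apply hnc
  apply isCyclic_of_card_dvd_prime (p := 2)
  rw [hf]
  have : f = 0 ∨ f = 1 := by omega
  rcases this with rfl | rfl <;> norm_num

end Cfsg.Agent.Lib.Helper12.CT
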