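import Cfsg.Agent.Lib.Helper12.CT
import Cfsg.Agent.Lib.Helper7.SL2Class
import Cfsg.Agent.Lib.Helper64.SemiGraph

/-!
# `PSL₂` over a finite field of characteristic two is a CT-group
-/

set_option autoImplicit false
set_option linter.unusedSectionVars false
set_option linter.unusedVariables false

open Cfsg

namespace Cfsg.Agent.Lib.Helper12.CT

theorem isCT_of_equiv {G H : Type*} [Group G] [Group H] (e : G ≃* H) (h : IsCT H) : IsCT G := by
  intro a b c ha hb hc hab hbc
  have hne : ∀ x : G, x ≠ 1 → e x ≠ 1 := by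
    intro x hx hh
    apply hx
    apply e.injective
    rw [hh, map_one]
  have := h (e a) (e b) (e c) (hne a ha) (hne b hb) (hne c hc) (hab.map e) (hbc.map e)
  apply e.injective
  rw [map_mul, map_mul]
  exact this

theorem center_sl2 (F : Type*) [Field F] [CharP F 2] :
    Subgroup.center (Matrix.SpecialLinearGroup (Fin 2) F) = ⊥ := by
  rw [eq_bot_iff]
  intro A hA
  rw [Matrix.SpecialLinearGroup.mem_center_iff] at hA
  obtain ⟨r, hr, hrA⟩ := hA
  simp only [Fintype.card_fin] at hr
  have h3 : (2 : F) = 0 := CharTwo.two_eq_zero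
  have : (r - 1) ^ 2 = 0 := by linear_combination hr - r * h3 + h3
  have hr1 : r = 1 := by
    have := pow_eq_zero_iff (two_ne_zero) |>.mp this
    linear_combination this
  rw [Subgroup.mem_bot]
  apply Matrix.SpecialLinearGroup.ext
  intro i j
  rw [← hrA, hr1]
  simp

theorem isCT_sl2 (F : Type*) [Field F] [CharP F 2] :
    IsCT (Matrix.SpecialLinearGroup (Fin 2) F) := by
  intro a b c ha hb hc hab hbc
  apply Helper7.commTrans_SL2 b a c ?_ hab hbc.symm
  rw [center_sl2, Subgroup.mem_bot]
  exact hb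

theorem isCT_psl2 (F : Type*) [Field F] [Fintype F] {f : ℕ} (hf : Fintype.card F = 2 ^ f) :
    IsCT (Matrix.ProjectiveSpecialLinearGroup (Fin 2) F) := by
  have h2 : (2 : F) = 0 := by
    have h := Nat.cast_card_eq_zero F
    rw [hf] at h
    push_cast at h
    exact eq_zero_of_pow_eq_zero h
  haveI : CharP F 2 := CharTwo.of_one_ne_zero_of_two_eq_zero one_ne_zero h2
  obtain ⟨e⟩ := Helper64.psl2_equiv_sl2 F
  exact isCT_of_equiv e (isCT_sl2 F)

end Cfsg.Agent.Lib.Helper12.CT
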