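import Mathlib

set_option autoImplicit false

namespace Cfsg.Agent.Lib.Helper12

open Pointwise

theorem mem_normalizer_iff_smul {G : Type*} [Group G] (H : Subgroup G) (g : G) :
    g ∈ Subgroup.normalizer (H : Set G) ↔ MulAut.conj g • H = H :=
  Subgroup.mem_normalizer_iff_map_conj_eq

theorem card_conj_smul {G : Type*} [Group G] (H : Subgroup G) (g : G) :
    Nat.card (MulAut.conj g • H : Subgroup G) = Nat.card H :=
  (Nat.card_congr (Subgroup.equivSMul (MulAut.conj g) H).toEquiv).symm

theorem smul_eq_of_le {G : Type*} [Group G] [Finite G] (H : Subgroup G) (g : G)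
    (h : H ≤ MulAut.conj g • H) : MulAut.conj g • H = H := by
  symm
  apply Subgroup.eq_of_le_of_card_ge h
  rw [card_conj_smul]

/-- A subgroup normalized by `U` and `N` with `U ⊔ N = ⊤` is normal. -/
theorem normal_of_sup_eq_top {G : Type*} [Group G] {U N D : Subgroup G} (h : U ⊔ N = ⊤)
    (hU : U ≤ Subgroup.normalizer (D : Set G)) (hN : N ≤ Subgroup.normalizer (D : Set G)) :
    D.Normal := by
  rw [← Subgroup.normalizer_eq_top_iff, eq_top_iff, ← h]
  exact sup_le hU hN

theorem not_le_of_core_eq_bot {G : Type*} [Group G] {U N : Subgroup G} (hcore : U.normalCore = ⊥)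
    [N.Normal] (hN : N ≠ ⊥) : ¬ N ≤ U := by
  intro h
  apply hN
  rw [eq_bot_iff, ← hcore]
  exact Subgroup.normal_le_normalCore.2 h

theorem sup_eq_top_of_core_eq_bot {G : Type*} [Group G] {U N : Subgroup G} (hU : IsCoatom U)
    (hcore : U.normalCore = ⊥) [N.Normal] (hN : N ≠ ⊥) : U ⊔ N = ⊤ := by
  apply hU.2
  exact lt_of_le_of_ne le_sup_left
    (fun h => not_le_of_core_eq_bot hcore hN (by rw [h]; exact le_sup_right))

theorem centralizer_inf_eq_bot {G : Type*} [Group G] (U : Subgroup G) (hU : IsCoatom U)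
    (hcore : U.normalCore = ⊥) (N : Subgroup G) [N.Normal] (hN : N ≠ ⊥) :
    Subgroup.centralizer (N : Set G) ⊓ U = ⊥ := by
  have hsup := sup_eq_top_of_core_eq_bot hU hcore hN
  have hD : (Subgroup.centralizer (N : Set G) ⊓ U).Normal := by
    apply normal_of_sup_eq_top hsup
    · refine le_trans ?_ Subgroup.inf_normalizer_le_normalizer_inf
      exact le_inf Subgroup.le_normalizer_of_normal Subgroup.le_normalizer
    · refine le_trans ?_ (Subgroup.centralizer_le_normalizer _)
      rw [Subgroup.le_centralizer_iff]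
      exact inf_le_left
  rw [eq_bot_iff, ← hcore]
  exact Subgroup.normal_le_normalCore.2 inf_le_right

theorem centralizer_minimal {G : Type*} [Group G] (U : Subgroup G) (hU : IsCoatom U)
    (hcore : U.normalCore = ⊥) (N : Subgroup G) [N.Normal] (hN : N ≠ ⊥)
    (K : Subgroup G) (hKn : K.Normal) (hK : K ≤ Subgroup.centralizer (N : Set G)) :
    K = ⊥ ∨ K = Subgroup.centralizer (N : Set G) := by
  by_cases hKb : K = ⊥
  · exact Or.inl hKb
  right
  apply le_antisymm hK
  intro c hc
  have hsup := sup_eq_top_of_core_eq_bot hU hcore hKb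
  have hc' : c ∈ U ⊔ K := by rw [hsup]; trivial
  obtain ⟨u, hu, k, hk, rfl⟩ := Subgroup.mem_sup_of_normal_right.1 hc'
  have hu' : u ∈ Subgroup.centralizer (N : Set G) ⊓ U := by
    refine ⟨?_, hu⟩
    have := mul_mem hc (inv_mem (hK hk))
    simpa using this
  rw [centralizer_inf_eq_bot U hU hcore N hN, Subgroup.mem_bot] at hu'
  rw [hu', one_mul]; exact hk

end Cfsg.Agent.Lib.Helper12
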