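import Cfsg.Agent.Lib.Helper12.FA3
import Cfsg.Agent.Lib.Helper5.Coherent
import Cfsg.Agent.Lib.Helper32.Sib4
import Cfsg.Agent.Lib.Helper32.Feit1
import Cfsg.Agent.S1535
import Cfsg.Agent.S0853
import Cfsg.Agent.S0150

/-!
# Coherence and the two relations between the degree and the exceptional constant
-/

set_option autoImplicit false
set_option linter.unusedSectionVars false
set_option linter.unusedVariables false

open Cfsg
open scoped ComplexConjugate

namespace Cfsg.Agent.Lib.Helper12.FA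

open Cfsg.Agent.Lib.Helper20

variable {G : Type*} [Group G] [Fintype G] {K : Subgroup G} {t : G}

/-- the irreducible characters of the normaliser not containing `K` in their kernel -/
def SS (K : Subgroup G) : Set (Subgroup.normalizer (K : Set G) → ℂ) :=
  {χ | IsIrrCharacter (Subgroup.normalizer (K : Set G)) χ ∧
    ∃ k : Subgroup.normalizer (K : Set G), (k : G) ∈ K ∧ χ k ≠ χ 1}

theorem GData.exists_star [Fintype (Subgroup.normalizer (K : Set G))] (D : GData K t)
    (htop : K.subgroupOf (Subgroup.normalizer (K : Set G)) ≠ ⊤)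
    (hcard : Nat.card (K.subgroupOf (Subgroup.normalizer (K : Set G)))
      ≠ (K.subgroupOf (Subgroup.normalizer (K : Set G))).index + 1) :
    ∃ star : (Subgroup.normalizer (K : Set G) → ℂ) → (G → ℂ),
      IsLinearIsometryOn (zspan (SS K)) star ∧
      ∀ α ∈ zspanOn (SS K) ({1}ᶜ : Set (Subgroup.normalizer (K : Set G))),
        star α = indFun (Subgroup.normalizer (K : Set G)) α := by
  have DL := D.toL
  haveI := DL.normal
  have hbot : K.subgroupOf (Subgroup.normalizer (K : Set G)) ≠ ⊥ := by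
    intro hh
    have : D.t' ∈ (⊥ : Subgroup (Subgroup.normalizer (K : Set G))) := hh ▸ DL.tA
    exact DL.t1 (Subgroup.mem_bot.1 this)
  have hiso := Helper32.ind_isometry (Subgroup.normalizer (K : Set G)) K Subgroup.le_normalizer
    D.ti rfl
  rw [Helper32.frob_set_eq _ DL.cent] at hiso
  rcases Cfsg.Agent.S1535.result (K.subgroupOf (Subgroup.normalizer (K : Set G))) hbot htop
    DL.cent hcard (fun α => indFun (Subgroup.normalizer (K : Set G)) α) hiso
    (Helper32.ind_map_one _ _) with h | h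
  · obtain ⟨-, star, h1, h2⟩ := h
    exact ⟨star, h1, h2⟩
  · obtain ⟨p, -, -, hnc, -⟩ := h
    exact absurd ⟨⟨fun a b => Subtype.ext (DL.comm a a.2 b b.2)⟩⟩ hnc

theorem GData.R1 [Fintype (Subgroup.normalizer (K : Set G))] (D : GData K t)
    {θ₁ θ₂ : Subgroup.normalizer (K : Set G) → ℂ} {Θ₁ Θ₂ : G → ℂ}
    (hc1 : IsClassFunction (Subgroup.normalizer (K : Set G)) θ₁)
    (hc2 : IsClassFunction (Subgroup.normalizer (K : Set G)) θ₂)
    (hoff1 : ∀ x : Subgroup.normalizer (K : Set G), (x : G) ∉ K → θ₁ x = 0)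
    (hoff2 : ∀ x : Subgroup.normalizer (K : Set G), (x : G) ∉ K → θ₂ x = 0)
    (h11 : θ₁ 1 = θ₂ 1)
    (hΘ1 : IsIrrCharacter G Θ₁ ∨ IsIrrCharacter G (-Θ₁))
    (hΘ2 : IsIrrCharacter G Θ₂ ∨ IsIrrCharacter G (-Θ₂))
    (hsub : Θ₁ - Θ₂ = indFun (Subgroup.normalizer (K : Set G)) (θ₁ - θ₂)) :
    Θ₁ 1 = Θ₂ 1 ∧
    Θ₁ 1 * (((Subgroup.normalizer (K : Set G)).index : ℂ) *
      ((Nat.card (K.subgroupOf (Subgroup.normalizer (K : Set G))) : ℂ) ^ 2 *
        (((K.subgroupOf (Subgroup.normalizer (K : Set G))).index : ℂ) *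
          (((K.subgroupOf (Subgroup.normalizer (K : Set G))).index : ℂ) - 1)) *
        (θ₁ D.t' - θ₂ D.t')))
      = (Nat.card G : ℂ) ^ 2 * (Θ₁ t ^ 2 - Θ₂ t ^ 2) := by
  have hφ1 : (θ₁ - θ₂) 1 = 0 := by rw [Pi.sub_apply, h11, sub_self]
  have h1 : Θ₁ 1 = Θ₂ 1 := by
    have := congrFun hsub 1
    rw [Helper82.indFun_one, hφ1, mul_zero, Pi.sub_apply] at this
    exact sub_eq_zero.1 this
  refine ⟨h1, ?_⟩
  have s1 := sum_sum_signed hΘ1 t
  have s2 := sum_sum_signed hΘ2 t
  simp only [← Finset.sum_mul] at s1 s2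
  have hφ : ∑ a : G, ∑ b : G, (Θ₁ - Θ₂) (a * t * a⁻¹ * (b * t * b⁻¹))
      = ((Subgroup.normalizer (K : Set G)).index : ℂ) *
      ((Nat.card (K.subgroupOf (Subgroup.normalizer (K : Set G))) : ℂ) ^ 2 *
        (((K.subgroupOf (Subgroup.normalizer (K : Set G))).index : ℂ) *
          (((K.subgroupOf (Subgroup.normalizer (K : Set G))).index : ℂ) - 1)) *
        (θ₁ D.t' - θ₂ D.t')) := by
    rw [hsub, sum_sum_ind, D.sum_sum_ext (θ₁ - θ₂) hφ1
      (fun x hx => by rw [Pi.sub_apply, hoff1 x hx, hoff2 x hx, sub_self]),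
      D.toL.sum_sum_conj (isClassFunction_sub hc1 hc2) hφ1, Pi.sub_apply]
  simp only [Pi.sub_apply, Finset.sum_sub_distrib] at hφ
  rw [← hφ]
  rw [← h1] at s2
  linear_combination s1 - s2

theorem trunc_class {L : Type*} [Group L] [Fintype L] {A : Subgroup L} (hA : A.Normal)
    {θ : L → ℂ} (hθ : IsClassFunction L θ) (m : ℂ) : IsClassFunction L (trunc A θ m) := by
  intro g h
  unfold trunc
  have h1 : h * g * h⁻¹ ∈ A ↔ g ∈ A := by
    constructor
    · intro hh
      have := hA.conj_mem _ hh h⁻¹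
      have e : h⁻¹ * (h * g * h⁻¹) * h⁻¹⁻¹ = g := by group
      rwa [e] at this
    · intro hh
      exact hA.conj_mem _ hh h
  have h2 : h * g * h⁻¹ ≠ 1 ↔ g ≠ 1 := by
    rw [not_iff_not]
    constructor
    · intro hh
      have e : g = h⁻¹ * (h * g * h⁻¹) * h := by group
      rw [e, hh]; group
    · rintro rfl
      group
  have h3 : (h * g * h⁻¹ ∈ A ∧ h * g * h⁻¹ ≠ 1) ↔ (g ∈ A ∧ g ≠ 1) := and_congr h1 h2
  by_cases hc : g ∈ A ∧ g ≠ 1
  · rw [if_pos hc, if_pos (h3.2 hc), hθ g h]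
  · rw [if_neg hc, if_neg (fun hh => hc (h3.1 hh))]

local notation "N" => Subgroup.normalizer ((K : Subgroup G) : Set G)
local notation "A" => Subgroup.subgroupOf K (Subgroup.normalizer ((K : Subgroup G) : Set G))

theorem GData.R2 [Fintype (Subgroup.normalizer (K : Set G))] (D : GData K t)
    {θ : Subgroup.normalizer (K : Set G) → ℂ} {Θ : G → ℂ}
    (hθ : IsIrrCharacter (Subgroup.normalizer (K : Set G)) θ)
    (hrel : ∃ k ∈ K.subgroupOf (Subgroup.normalizer (K : Set G)), θ k ≠ θ 1)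
    (hoff : ∀ x, x ∉ K.subgroupOf (Subgroup.normalizer (K : Set G)) → θ x = 0)
    (e : ℤ) (h1 : θ 1 = e) (m : ℤ)
    (hΘc : IsClassFunction G Θ) (hΘ1 : classInner Θ Θ = 1)
    (hres : ∀ k : Subgroup.normalizer (K : Set G), (k : G) ∈ K → k ≠ 1 → Θ k = θ k + m)
    (d : ℤ) (hd : Θ 1 = d) :
    d ^ 2 ≤ ((Subgroup.normalizer (K : Set G)).index : ℤ) *
      ((e + m) ^ 2 - m ^ 2 * (Nat.card (K.subgroupOf (Subgroup.normalizer (K : Set G))) : ℤ)) := by
  classical
  have DL : LData A D.t' := D.toL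
  set α : N → ℂ := trunc A θ m with hα
  have hθc : IsClassFunction N θ :=
    isClassFunction_of_isCharacter (isCharacter_of_isIrrCharacter hθ)
  have hαc : IsClassFunction N α := trunc_class DL.normal hθc m
  have hαoff : ∀ x : N, (x : G) ∉ (K : Set G) → α x = 0 := by
    intro x hx
    have : ¬ (x ∈ A ∧ x ≠ 1) := fun hh => hx hh.1
    simp only [hα, trunc, if_neg this]
  have hα1 : α 1 = 0 := by
    have : ¬ ((1 : N) ∈ A ∧ (1 : N) ≠ 1) := fun hh => hh.2 rfl
    simp only [hα, trunc, if_neg this]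
  have I1 : classInner (indFun N α) Θ = classInner α α := by
    rw [Helper19.frobenius_reciprocity N α Θ hΘc]
    unfold classInner
    congr 1
    apply Finset.sum_congr rfl
    intro x _
    by_cases hx : x ∈ A ∧ x ≠ 1
    · have : α x = Θ x := by
        rw [hres x hx.1 hx.2]
        simp only [hα, trunc, if_pos hx]
      rw [this]
    · have : α x = 0 := by simp only [hα, trunc, if_neg hx]
      rw [this, zero_mul, zero_mul]
  have I2 : classInner (indFun N α) (indFun N α) = classInner α α :=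
    Cfsg.Agent.S0150.result (K : Set G) D.ti (fun x hx => Subgroup.le_normalizer hx) α α hαc hαc
      hαoff hαoff hα1
  have hc := inner_trunc hθ hrel hoff e h1 m
  rw [← hα] at hc
  set c := classInner α α with hcdef
  have hcc : conj c = c := classInner_conj_symm α α
  have I3 : classInner Θ (indFun N α) = c := by
    rw [← classInner_conj_symm, I1, hcc]
  set β : G → ℂ := Θ - indFun N α with hβ
  have hββ : classInner β β = 1 - c := by
    rw [hβ, classInner_sub_left, classInner_sub_right, classInner_sub_right, hΘ1, I3, I1, I2]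
    ring
  have hβ1 : β 1 = d := by
    rw [hβ, Pi.sub_apply, Helper82.indFun_one, hα1, mul_zero, sub_zero, hd]
  have hG0 : (Nat.card G : ℂ) ≠ 0 := by exact_mod_cast Nat.card_pos.ne'
  have hsum : (Nat.card G : ℂ) * classInner β β = ((∑ g : G, Complex.normSq (β g) : ℝ) : ℂ) := by
    unfold classInner
    rw [← mul_assoc, mul_inv_cancel₀ hG0, one_mul, Complex.ofReal_sum]
    apply Finset.sum_congr rfl
    intro g _
    exact Complex.mul_conj (β g)
  have hge : Complex.normSq (β 1) ≤ ∑ g : G, Complex.normSq (β g) :=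
    Finset.single_le_sum (f := fun g => Complex.normSq (β g)) (fun g _ => Complex.normSq_nonneg _)
      (Finset.mem_univ 1)
  have hn1 : Complex.normSq (β 1) = (d : ℝ) ^ 2 := by
    rw [hβ1]
    have : ((d : ℤ) : ℂ) = ((d : ℝ) : ℂ) := by push_cast; rfl
    rw [this, Complex.normSq_ofReal]
    ring
  have hGN : (Nat.card G : ℂ) = ((N).index : ℂ) * (Nat.card N : ℂ) := by
    rw [← (N).index_mul_card]; push_cast; rfl
  have hfin : ((∑ g : G, Complex.normSq (β g) : ℝ) : ℂ)
      = ((((N).index : ℤ) * ((e + m) ^ 2 - m ^ 2 * (Nat.card A : ℤ)) : ℤ) : ℂ) := by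
    rw [← hsum, hββ, hGN]
    push_cast
    linear_combination (-((N).index : ℂ)) * hc
  have hfin' : (∑ g : G, Complex.normSq (β g) : ℝ)
      = ((((N).index : ℤ) * ((e + m) ^ 2 - m ^ 2 * (Nat.card A : ℤ)) : ℤ) : ℝ) := by
    apply Complex.ofReal_injective
    rw [hfin]
    push_cast
    rfl
  rw [hn1, hfin'] at hge
  exact_mod_cast hge

end Cfsg.Agent.Lib.Helper12.FA
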