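import Cfsg.Agent.Lib.Helper12.FA4

/-!
# An abelian T.I. subgroup with conjugate involutions is elementary abelian
-/

set_option autoImplicit false
set_option linter.unusedSectionVars false
set_option linter.unusedVariables false

open Cfsg
open scoped ComplexConjugate

namespace Cfsg.Agent.Lib.Helper12.FA

open Cfsg.Agent.Lib.Helper20

variable {G : Type*} [Group G] [Fintype G] {K : Subgroup G} {t : G}

local notation "N" => Subgroup.normalizer ((K : Subgroup G) : Set G)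
local notation "A" => Subgroup.subgroupOf K (Subgroup.normalizer ((K : Subgroup G) : Set G))

theorem GData.false_of (D : GData K t) {s u g₀ : G} (hs : s ∈ K) (hs1 : s ≠ 1) (hst : s ≠ t)
    (hs2 : s * s = 1) (hu : u ∈ K) (hu2 : u * u ≠ 1)
    (hg : g₀ ∉ Subgroup.normalizer (K : Set G)) : False := by
  classical
  letI : Fintype N := Fintype.ofFinite _
  have DL : LData A D.t' := D.toL
  have he3 : 3 ≤ (A).index :=
    DL.three_le_index (s := ⟨s, Subgroup.le_normalizer hs⟩) hs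
      (fun hh => hs1 (congrArg Subtype.val hh)) (fun hh => hst (congrArg Subtype.val hh))
      (Subtype.ext hs2)
  have hμ : 2 * (A).index + 2 ≤ Nat.card A :=
    DL.card_ge (u := ⟨u, Subgroup.le_normalizer hu⟩) hu (fun hh => hu2 (congrArg Subtype.val hh))
  have hn : (A).index + 1 ≤ (N).index := D.index_ge hg
  have htop : A ≠ ⊤ := by
    intro hh
    rw [hh, Subgroup.index_top] at he3
    omega
  have hlt : K < N := by
    refine lt_of_le_of_ne Subgroup.le_normalizer ?_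
    intro hh
    apply htop
    rw [Subgroup.subgroupOf_eq_top]
    exact hh.ge
  obtain ⟨star, hstar, hext⟩ := D.exists_star htop (by omega)
  obtain ⟨ξ₁, hξ1, hξ1'⟩ := DL.exists_xi1 (u := ⟨u, Subgroup.le_normalizer hu⟩) hu
    (fun hh => hu2 (congrArg Subtype.val hh))
  obtain ⟨ξ₂, hξ2⟩ := DL.exists_xi2
  have hξ2' : ξ₂ ≠ 1 := by
    rintro rfl
    exact hξ2 rfl
  have hS1 : th ξ₁ ∈ SS K := ⟨DL.th_irr ξ₁ hξ1, DL.th_rel ξ₁ hξ1⟩
  have hS2 : th ξ₂ ∈ SS K := ⟨DL.th_irr ξ₂ hξ2', DL.th_rel ξ₂ hξ2'⟩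
  have ht1 : th ξ₁ D.t' = ((A).index : ℂ) := DL.th_t_of_trivial ξ₁ hξ1'
  have ht2 : th ξ₂ D.t' = -1 := DL.th_t_of_ne ξ₂ hξ2
  have hne : th ξ₁ ≠ th ξ₂ := by
    intro hh
    rw [hh, ht2] at ht1
    have h0 : (((A).index + 1 : ℕ) : ℂ) = 0 := by
      push_cast
      rw [← ht1]
      ring
    exact absurd h0 (Nat.cast_ne_zero.2 (Nat.succ_ne_zero _))
  obtain ⟨m, hm⟩ := Cfsg.Agent.S0853.result K D.ti hlt D.cent (SS K) rfl
    ⟨_, hS1, _, hS2, hne⟩ star hstar hext
  have hSirr : ∀ χ ∈ SS K, IsIrrCharacter N χ := fun χ h => h.1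
  have sg1 := Helper5.star_signed hSirr hstar hS1
  have sg2 := Helper5.star_signed hSirr hstar hS2
  have he0 : (((A).index : ℕ) : ℂ) ≠ 0 := Nat.cast_ne_zero.2 (by omega)
  have hres : ∀ ξ : A →* ℂˣ, th ξ ∈ SS K → ∀ k : N, (k : G) ∈ K → k ≠ 1 →
      star (th ξ) k = th ξ k + m := by
    intro ξ hξ k hk hk1
    have := hm (th ξ) hξ k hk hk1
    rw [th_one, mul_div_assoc, div_self he0, mul_one] at this
    linear_combination this
  have hsub : star (th ξ₁) - star (th ξ₂) = indFun N (th ξ₁ - th ξ₂) := by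
    have hmem : th ξ₁ - th ξ₂ ∈ zspanOn (SS K) ({1}ᶜ : Set N) := by
      rw [Helper32.mem_zspanOn_one]
      exact ⟨Submodule.sub_mem _ (Submodule.subset_span hS1) (Submodule.subset_span hS2),
        by rw [Pi.sub_apply, th_one, th_one, sub_self]⟩
    rw [← hext _ hmem]
    have hM : IsLinearIsometryOn
      ((Submodule.span ℤ (SS K) : Submodule ℤ (N → ℂ)) : Set (N → ℂ)) star := hstar
    exact (Helper32.iso_map_sub hM (Submodule.subset_span hS1) (Submodule.subset_span hS2)).symm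
  obtain ⟨d, hd⟩ := Helper32.genChar_apply_one (hstar.2.2.2 _ (Helper32.zspan_of_mem hS1))
  have hcl : ∀ ξ : A →* ℂˣ, th ξ ∈ SS K → IsClassFunction N (th ξ) := fun ξ h =>
    isClassFunction_of_isCharacter (isCharacter_of_isIrrCharacter h.1)
  have ht'1 : D.t' ≠ 1 := DL.t1
  have R1 := (D.R1 (hcl _ hS1) (hcl _ hS2) (fun x hx => DL.th_off ξ₁ hx)
    (fun x hx => DL.th_off ξ₂ hx) ((th_one ξ₁).trans (th_one ξ₂).symm) sg1 sg2 hsub).2
  have v1 : star (th ξ₁) t = ((A).index : ℂ) + m := by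
    rw [← ht1]; exact hres ξ₁ hS1 D.t' D.tK ht'1
  have v2 : star (th ξ₂) t = -1 + m := by
    rw [← ht2]; exact hres ξ₂ hS2 D.t' D.tK ht'1
  rw [v1, v2, ht1, ht2, hd] at R1
  have hGN : (Nat.card G : ℂ) = ((N).index : ℂ) * (((A).index : ℂ) * (Nat.card A : ℂ)) := by
    rw [← (N).index_mul_card, ← (A).index_mul_card]; push_cast; rfl
  rw [hGN] at R1
  have hn0 : (((N).index : ℕ) : ℂ) ≠ 0 := Nat.cast_ne_zero.2 (by omega)
  have hμ0 : ((Nat.card A : ℕ) : ℂ) ≠ 0 := Nat.cast_ne_zero.2 (by omega)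
  have he10 : (((A).index : ℕ) : ℂ) + 1 ≠ 0 := by
    have : (((A).index + 1 : ℕ) : ℂ) ≠ 0 := Nat.cast_ne_zero.2 (Nat.succ_ne_zero _)
    push_cast at this
    exact this
  have R1c : (d : ℂ) * (((A).index : ℂ) - 1)
      = ((N).index : ℂ) * ((A).index : ℂ) * (((A).index : ℂ) - 1 + 2 * m) := by
    have hX : ((N).index : ℂ) * (Nat.card A : ℂ) ^ 2 * ((A).index : ℂ) * (((A).index : ℂ) + 1) ≠ 0 :=
      mul_ne_zero (mul_ne_zero (mul_ne_zero hn0 (pow_ne_zero 2 hμ0)) he0) he10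
    apply mul_left_cancel₀ hX
    linear_combination R1
  have R1z : d * (((A).index : ℤ) - 1)
      = ((N).index : ℤ) * ((A).index : ℤ) * (((A).index : ℤ) - 1 + 2 * m) := by
    exact_mod_cast R1c
  have R2 := D.R2 (DL.th_irr ξ₁ hξ1) (DL.th_rel ξ₁ hξ1) (fun x hx => DL.th_off ξ₁ hx)
    ((A).index : ℤ) (by rw [th_one]; push_cast; rfl) m
    (Helper32.genChar_isClassFunction (hstar.2.2.2 _ (Helper32.zspan_of_mem hS1)))
    (Helper5.star_self hSirr hstar hS1) (hres ξ₁ hS1) d hd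
  exact numerics ((A).index : ℤ) (Nat.card A : ℤ) ((N).index : ℤ) d m (by exact_mod_cast he3)
    (by exact_mod_cast hμ) (by have : 4 ≤ (N).index := by omega
                               exact_mod_cast this) R1z R2

end Cfsg.Agent.Lib.Helper12.FA
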