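import Mathlib

/-!
# Recognising `PSL(2,p)` as a permutation group on the projective line, part 1

A subgroup `Γ` of `Perm (Option (ZMod p))` of order `(p+1) p (p-1)/2` whose stabiliser of `∞ = none`
consists of affine maps `x ↦ a x + b` with `a` a square contains `x ↦ -1/x`, provided a finite
(decidable) check on `p` holds.
-/

set_option autoImplicit false

namespace Cfsg.Agent.Lib.Helper12.L2

/-- scanning evaluation of the candidate function -/
def scan {p : ℕ} (g a' : ZMod p) : ℕ → ZMod p → ZMod p → ZMod p → ZMod p → ZMod p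
  | 0, _, _, _, _ => 0
  | k+1, xc, yc, yn, x => if x = xc then yc else scan g a' k (g * xc) yn (a' * yc) x

/-- the candidate function with `f 1 = u`, `f g = v`, `f (g^2 x) = a' f x` -/
def cand {p : ℕ} (m : ℕ) (g a' u v x : ZMod p) : ZMod p := scan g a' (2 * m) 1 u v x

/-- the finite check -/
def Check (p m : ℕ) [NeZero p] (g : ZMod p) (E : ZMod p → Bool) : Prop :=
  ∀ a' : ZMod p, a' ^ m = 1 → E a' = true → ∀ u : ZMod p, (u = 1 ∨ u = g) → ∀ v : ZMod p, v ≠ 0 →
   ∀ b : ZMod p, b ≠ 0 → cand m g a' u v b = -u → ∀ a : ZMod p, a ^ m = 1 →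
    (∀ x : ZMod p, x ≠ 0 → (cand m g a' u v x = -1 → a * x + b = 0) ∧ (cand m g a' u v x ≠ -1 →
        (a * x + b ≠ 0 ∧
          cand m g a' u v (cand m g a' u v x + 1) = u + cand m g a' u v (a * x + b)))) →
    a' * g ^ 2 = 1 ∧ v * g = u ∧ (-u) ^ m = 1

theorem scan_eq {p : ℕ} [Fact p.Prime] {g a' : ZMod p} (f : ZMod p → ZMod p)
    (hf : ∀ x, x ≠ 0 → f (g * (g * x)) = a' * f x) (hg : g ≠ 0) :
    ∀ (k : ℕ) (xc yc yn : ZMod p), xc ≠ 0 → f xc = yc → f (g * xc) = yn →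
      ∀ j, j < k → scan g a' k xc yc yn (g ^ j * xc) = f (g ^ j * xc)
  | 0, _, _, _, _, _, _, j, hj => absurd hj (Nat.not_lt_zero _)
  | k+1, xc, yc, yn, hxc, hyc, hyn, j, hj => by
      rw [scan]
      split_ifs with h
      · rw [h, hyc]
      · cases j with
        | zero => simp at h
        | succ j =>
          have := scan_eq f hf hg k (g * xc) yn (a' * yc) (mul_ne_zero hg hxc) hyn
            (by rw [hf xc hxc, hyc]) j (by omega)
          rw [pow_succ, mul_assoc]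
          exact this

/-- `γ` fixes `∞` and acts as `x ↦ a x + b` -/
def IsAff {p : ℕ} (γ : Equiv.Perm (Option (ZMod p))) (a b : ZMod p) : Prop :=
  γ none = none ∧ ∀ x, γ (some x) = some (a * x + b)

/-- numerical hypotheses on `p = 2m+1` and the primitive root `g` -/
structure Num (p m : ℕ) (g : ZMod p) : Prop where
  hp : p = 2 * m + 1
  hg : g ^ m = -1
  cover : ∀ x : ZMod p, x ≠ 0 → ∃ j, j < 2 * m ∧ x = g ^ j
  roots : Nat.card {a : ZMod p // a ^ m = 1} ≤ m

section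

variable {p : ℕ} [Fact p.Prime] {m : ℕ} {g : ZMod p}

theorem exists_aff (hN : Num p m g) (Γ : Subgroup (Equiv.Perm (Option (ZMod p))))
    (H1 : ∀ γ ∈ Γ, γ none = none → ∃ a b, a ^ m = 1 ∧ IsAff γ a b)
    (hcard : Nat.card Γ = (p + 1) * (p * m)) :
    (∀ a b, a ^ m = 1 → ∃ γ ∈ Γ, IsAff γ a b) ∧ ∃ γ ∈ Γ, γ none ≠ none := by
  classical
  set St := MulAction.stabilizer Γ (none : Option (ZMod p)) with hSt
  have hΩ : Nat.card (Option (ZMod p)) = p + 1 := by
    rw [Nat.card_eq_fintype_card, Fintype.card_option, ZMod.card]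
  have h1 : St.index ≤ p + 1 := by
    rw [hSt, MulAction.index_stabilizer, ← hΩ, ← Set.ncard_univ]
    exact Set.ncard_le_ncard (Set.subset_univ _) Set.finite_univ
  have h2 : Nat.card St * St.index = Nat.card Γ := Subgroup.card_mul_index St
  have h3 : p * m ≤ Nat.card St := by
    rw [hcard] at h2
    have : (p + 1) * (p * m) ≤ Nat.card St * (p + 1) := by
      rw [← h2]; exact Nat.mul_le_mul_left _ h1
    rw [mul_comm] at this
    exact Nat.le_of_mul_le_mul_right this (Nat.succ_pos p)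
  have hfix : ∀ γ : St, ((γ : Γ) : Equiv.Perm (Option (ZMod p))) none = none := fun γ => γ.2
  have hch : ∀ γ : St, ∃ ab : {a : ZMod p // a ^ m = 1} × ZMod p,
      IsAff ((γ : Γ) : Equiv.Perm (Option (ZMod p))) ab.1.1 ab.2 := by
    intro γ
    obtain ⟨a, b, ha, hab⟩ := H1 _ (γ : Γ).2 (hfix γ)
    exact ⟨(⟨a, ha⟩, b), hab⟩
  choose φ hφ using hch
  have hinj : Function.Injective φ := by
    intro γ γ' h
    apply Subtype.ext
    apply Subtype.ext
    apply Equiv.ext
    intro x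
    cases x with
    | none => rw [(hφ γ).1, (hφ γ').1]
    | some x => rw [(hφ γ).2, (hφ γ').2, h]
  have hc : Nat.card ({a : ZMod p // a ^ m = 1} × ZMod p) ≤ Nat.card St := by
    rw [Nat.card_prod, Nat.card_zmod]
    calc _ ≤ m * p := Nat.mul_le_mul_right _ hN.roots
      _ = p * m := mul_comm _ _
      _ ≤ _ := h3
  have hbij := hinj.bijective_of_nat_card_le hc
  refine ⟨?_, ?_⟩
  · intro a b ha
    obtain ⟨γ, hγ⟩ := hbij.2 (⟨a, ha⟩, b)
    refine ⟨_, (γ : Γ).2, ?_⟩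
    have := hφ γ
    rw [hγ] at this
    exact this
  · by_contra hcon
    push Not at hcon
    have htop : St = ⊤ := by
      rw [eq_top_iff]
      intro γ _
      exact hcon γ.1 γ.2
    have h4 : Nat.card St ≤ p * m := by
      rw [Nat.card_congr (Equiv.ofBijective φ hbij), Nat.card_prod, Nat.card_zmod, mul_comm]
      exact Nat.mul_le_mul_left _ hN.roots
    rw [htop, Subgroup.index_top, mul_one, hcard] at h2
    rw [htop, h2] at h4
    have hp0 : 0 < p := (Fact.out : p.Prime).pos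
    have hm0 : 0 < m := by
      rcases Nat.eq_zero_or_pos m with h | h
      · have := hN.hp
        rw [h] at this
        have h5 := (Fact.out : p.Prime).one_lt
        omega
      · exact h
    have : 0 < p * m := Nat.mul_pos hp0 hm0
    nlinarith

theorem exists_swap (Γ : Subgroup (Equiv.Perm (Option (ZMod p))))
    (H2 : ∀ a b, a ^ m = 1 → ∃ γ ∈ Γ, IsAff γ a b) (H3 : ∃ γ ∈ Γ, γ none ≠ none) :
    ∃ w ∈ Γ, w none = some 0 ∧ w (some 0) = none := by
  obtain ⟨γ, hγ, hne⟩ := H3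
  obtain ⟨c, hc⟩ := Option.ne_none_iff_exists'.1 hne
  obtain ⟨τ, hτ, hτa⟩ := H2 1 (-c) (one_pow m)
  have h1 : (τ * γ) none = some 0 := by
    rw [Equiv.Perm.mul_apply, hc, hτa.2]; simp
  have h2 : (τ * γ)⁻¹ none ≠ none := by
    intro h
    rw [Equiv.Perm.inv_eq_iff_eq, h1] at h
    exact absurd h (by simp)
  obtain ⟨d, hd⟩ := Option.ne_none_iff_exists'.1 h2
  rw [Equiv.Perm.inv_eq_iff_eq] at hd
  obtain ⟨τ', hτ', hτa'⟩ := H2 1 d (one_pow m)
  refine ⟨τ * γ * τ', Γ.mul_mem (Γ.mul_mem hτ hγ) hτ', ?_, ?_⟩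
  · rw [Equiv.Perm.mul_apply, hτa'.1, h1]
  · rw [Equiv.Perm.mul_apply, hτa'.2, one_mul, zero_add, ← hd]

theorem swap_some (w : Equiv.Perm (Option (ZMod p))) (ha : w none = some 0)
    (hb : w (some 0) = none) (x : ZMod p) (hx : x ≠ 0) : ∃ y, y ≠ 0 ∧ w (some x) = some y := by
  cases h : w (some x) with
  | none =>
    have := w.injective (h.trans hb.symm)
    simp only [Option.some.injEq] at this
    exact absurd this hx
  | some y =>
    refine ⟨y, ?_, rfl⟩
    rintro rfl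
    have := w.injective (h.trans ha.symm)
    simp at this

theorem Num.g_ne_zero (hN : Num p m g) : g ≠ 0 := by
  rintro rfl
  have h := hN.hg
  have hm0 : m ≠ 0 := by
    rintro rfl
    have := hN.hp
    have h5 := (Fact.out : p.Prime).one_lt
    omega
  rw [zero_pow hm0] at h
  have : (1 : ZMod p) = 0 := by linear_combination h
  exact one_ne_zero this

theorem main_perm (hN : Num p m g) (E : ZMod p → Bool) (hchk : Check p m g E)
    (Γ : Subgroup (Equiv.Perm (Option (ZMod p))))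
    (H1 : ∀ γ ∈ Γ, γ none = none → ∃ a b, a ^ m = 1 ∧ IsAff γ a b)
    (H2 : ∀ a b, a ^ m = 1 → ∃ γ ∈ Γ, IsAff γ a b) (H3 : ∃ γ ∈ Γ, γ none ≠ none)
    (HE : ∀ w ∈ Γ, w none = some 0 → w (some 0) = none → ∀ h ∈ Γ, IsAff h (g ^ 2) 0 →
      ∀ a', IsAff (w * h * w⁻¹) a' 0 → E a' = true) :
    ∃ w ∈ Γ, w none = some 0 ∧ w (some 0) = none ∧ ∀ x, x ≠ 0 → w (some x) = some (-x⁻¹) := by
  obtain ⟨w1, hw1, hw1a, hw1b⟩ := exists_swap Γ H2 H3
  have hg0 := hN.g_ne_zero
  have hp1 : p - 1 = m * 2 := by have := hN.hp; omega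
  obtain ⟨u1, hu1, hwu1⟩ := swap_some w1 hw1a hw1b 1 one_ne_zero
  have hu1sq : (u1 ^ m) ^ 2 = 1 := by
    rw [← pow_mul, ← hp1]
    exact ZMod.pow_card_sub_one_eq_one hu1
  obtain ⟨s, hs, hsu⟩ : ∃ s : ZMod p, s ^ m = 1 ∧ (s * u1 = 1 ∨ s * u1 = g) := by
    rcases sq_eq_one_iff.1 hu1sq with h | h
    · exact ⟨u1⁻¹, by rw [inv_pow, h, inv_one], Or.inl (inv_mul_cancel₀ hu1)⟩
    · refine ⟨g * u1⁻¹, by rw [mul_pow, inv_pow, h, hN.hg]; simp, Or.inr ?_⟩
      rw [mul_assoc, inv_mul_cancel₀ hu1, mul_one]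
  obtain ⟨η, hη, hηa⟩ := H2 s 0 hs
  obtain ⟨w, hwdef⟩ : ∃ w, w = η * w1 := ⟨_, rfl⟩
  obtain ⟨u, hudef⟩ : ∃ u, u = s * u1 := ⟨_, rfl⟩
  rw [← hudef] at hsu
  have hw : w ∈ Γ := hwdef ▸ Γ.mul_mem hη hw1
  have hwa : w none = some 0 := by
    rw [hwdef, Equiv.Perm.mul_apply, hw1a, hηa.2, mul_zero, add_zero]
  have hwb : w (some 0) = none := by
    rw [hwdef, Equiv.Perm.mul_apply, hw1b, hηa.1]
  have hwu : w (some 1) = some u := by
    rw [hwdef, Equiv.Perm.mul_apply, hwu1, hηa.2, add_zero, hudef]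
  have hu0 : u ≠ 0 := by
    rcases hsu with h | h
    · rw [h]; exact one_ne_zero
    · rw [h]; exact hg0
  have hwia : w⁻¹ none = some 0 := by rw [Equiv.Perm.inv_eq_iff_eq, hwb]
  have hwib : w⁻¹ (some 0) = none := by rw [Equiv.Perm.inv_eq_iff_eq, hwa]
  -- the function `f`
  have hex := swap_some w hwa hwb
  obtain ⟨f, hf⟩ : ∃ f : ZMod p → ZMod p, ∀ x, x ≠ 0 → f x ≠ 0 ∧ w (some x) = some (f x) := by
    classical
    refine ⟨fun x => if hx : x ≠ 0 then (hex x hx).choose else 0, ?_⟩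
    intro x hx
    simp only [dif_pos hx]
    exact (hex x hx).choose_spec
  have hf1 : f 1 = u := by
    have := (hf 1 one_ne_zero).2
    rw [hwu] at this
    exact (Option.some.inj this).symm
  -- the multiplier `a'`
  obtain ⟨h, hh, hha⟩ := H2 (g ^ 2) 0 (by rw [← pow_mul, mul_comm, pow_mul, hN.hg]; simp)
  have hκn : (w * h * w⁻¹) none = none := by
    rw [Equiv.Perm.mul_apply, Equiv.Perm.mul_apply, hwia, hha.2, mul_zero, add_zero, hwb]
  obtain ⟨a', b', ha', hκa⟩ := H1 _ (Γ.mul_mem (Γ.mul_mem hw hh) (Γ.inv_mem hw)) hκn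
  have hb' : b' = 0 := by
    have h1 : (w * h * w⁻¹) (some 0) = some 0 := by
      rw [Equiv.Perm.mul_apply, Equiv.Perm.mul_apply, hwib, hha.1, hwa]
    rw [hκa.2, mul_zero, zero_add] at h1
    exact Option.some.inj h1
  subst hb'
  have hEa := HE w hw hwa hwb h hh hha a' hκa
  have hfa : ∀ x, x ≠ 0 → f (g * (g * x)) = a' * f x := by
    intro x hx
    have h1 : (w * h * w⁻¹) (w (some x)) = w (h (some x)) := by
      simp [Equiv.Perm.mul_apply]
    rw [(hf x hx).2, hκa.2, hha.2, add_zero, add_zero,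
      (hf _ (mul_ne_zero (pow_ne_zero 2 hg0) hx)).2] at h1
    have h2 := Option.some.inj h1
    rw [← mul_assoc, ← sq, ← h2]
  -- the structure equation
  obtain ⟨T, hT, hTa⟩ := H2 1 1 (one_pow m)
  obtain ⟨τ', hτ', hτa'⟩ := H2 1 (-u) (one_pow m)
  have hβn : (w⁻¹ * τ' * w * T * w) none = none := by
    simp only [Equiv.Perm.mul_apply]
    rw [hwa, hTa.2, mul_zero, zero_add, hwu, hτa'.2, one_mul, add_neg_cancel, hwib]
  obtain ⟨a, b, ha, hβa⟩ := H1 _
    (Γ.mul_mem (Γ.mul_mem (Γ.mul_mem (Γ.mul_mem (Γ.inv_mem hw) hτ') hw) hT) hw) hβn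
  have key : ∀ y, τ' (w (T (w y))) = w ((w⁻¹ * τ' * w * T * w) y) := by
    intro y
    simp [Equiv.Perm.mul_apply]
  have hb : w (some b) = some (-u) := by
    have := key (some 0)
    rw [hβa.2, hwb, hTa.1, hwa, hτa'.2, mul_zero, mul_zero, zero_add, zero_add] at this
    exact this.symm
  have hb0 : b ≠ 0 := by
    rintro rfl
    rw [hwb] at hb
    exact absurd hb (by simp)
  have hfb : f b = -u := by
    have := (hf b hb0).2
    rw [hb] at this
    exact (Option.some.inj this).symm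
  have hcond : ∀ x : ZMod p, x ≠ 0 → (f x = -1 → a * x + b = 0) ∧ (f x ≠ -1 →
        (a * x + b ≠ 0 ∧ f (f x + 1) = u + f (a * x + b))) := by
    intro x hx
    have hk := key (some x)
    rw [hβa.2, (hf x hx).2, hTa.2, one_mul] at hk
    constructor
    · intro hfx
      rw [hfx, neg_add_cancel, hwb, hτa'.1] at hk
      have := w.injective (hk.symm.trans hwb.symm)
      exact Option.some.inj this
    · intro hfx
      have hne : f x + 1 ≠ 0 := fun h => hfx (eq_neg_of_add_eq_zero_left h)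
      rw [(hf _ hne).2, hτa'.2, one_mul] at hk
      have hne2 : a * x + b ≠ 0 := by
        intro h0
        rw [h0, hwb] at hk
        exact absurd hk (by simp)
      refine ⟨hne2, ?_⟩
      rw [(hf _ hne2).2] at hk
      have := Option.some.inj hk
      rw [← this]; ring
  have hcand : ∀ x, x ≠ 0 → cand m g a' u (f g) x = f x := by
    intro x hx
    obtain ⟨j, hj, rfl⟩ := hN.cover x hx
    have := scan_eq f hfa hg0 (2 * m) 1 u (f g) one_ne_zero hf1 (by rw [mul_one]) j hj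
    rw [mul_one] at this
    exact this
  obtain ⟨c1, c2, c3⟩ := hchk a' ha' hEa u hsu (f g) (hf g hg0).1 b hb0
    (by rw [hcand b hb0, hfb]) a ha (by
      intro x hx
      rw [hcand x hx]
      refine ⟨(hcond x hx).1, fun hfx => ?_⟩
      obtain ⟨d1, d2⟩ := (hcond x hx).2 hfx
      have hne : f x + 1 ≠ 0 := fun h => hfx (eq_neg_of_add_eq_zero_left h)
      rw [hcand _ hne, hcand _ d1]
      exact ⟨d1, d2⟩)
  have hfg : ∀ j : ℕ, f (g ^ j) * g ^ j = u ∧ f (g ^ (j + 1)) * g ^ (j + 1) = u := by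
    intro j
    induction j with
    | zero => exact ⟨by rw [pow_zero, mul_one, hf1], by rw [zero_add, pow_one, c2]⟩
    | succ j ih =>
      refine ⟨ih.2, ?_⟩
      have h1 : g ^ (j + 1 + 1) = g * (g * g ^ j) := by ring
      rw [h1, hfa _ (pow_ne_zero j hg0)]
      calc a' * f (g ^ j) * (g * (g * g ^ j)) = (a' * g ^ 2) * (f (g ^ j) * g ^ j) := by ring
        _ = u := by rw [c1, ih.1, one_mul]
  obtain ⟨η', hη', hηa'⟩ := H2 (-u)⁻¹ 0 (by rw [inv_pow, c3, inv_one])
  refine ⟨η' * w, Γ.mul_mem hη' hw, ?_, ?_, ?_⟩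
  · rw [Equiv.Perm.mul_apply, hwa, hηa'.2, mul_zero, add_zero]
  · rw [Equiv.Perm.mul_apply, hwb, hηa'.1]
  · intro x hx
    rw [Equiv.Perm.mul_apply, (hf x hx).2, hηa'.2, add_zero]
    obtain ⟨j, -, rfl⟩ := hN.cover x hx
    have h1 := (hfg j).1
    congr 1
    have h2 : f (g ^ j) = u * (g ^ j)⁻¹ := by
      rw [← h1, mul_assoc, mul_inv_cancel₀ hx, mul_one]
    rw [h2]
    field_simp

end

end Cfsg.Agent.Lib.Helper12.L2
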