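import Mathlib
import Cfsg.Agent.Lib.Helper12.L2Perm

/-!
# Recognising `PSL(2,p)`, part 2: the action on the Sylow `p`-subgroups
-/

set_option autoImplicit false
set_option linter.unusedSectionVars false

namespace Cfsg.Agent.Lib.Helper12.L2

section zp

variable {G : Type*} [Group G] {p : ℕ} [Fact p.Prime]

/-- powers of `z` indexed by `ZMod p` -/
def zp (z : G) (i : ZMod p) : G := z ^ i.val

variable {z : G} (hz : orderOf z = p)
include hz

theorem zp_natCast (k : ℕ) : zp z (k : ZMod p) = z ^ k := by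
  rw [zp, ZMod.val_natCast]
  have := pow_mod_orderOf z k
  rwa [hz] at this

theorem zp_add (i j : ZMod p) : zp z (i + j) = zp z i * zp z j := by
  rw [zp, zp, zp, ZMod.val_add, ← pow_add]
  have := pow_mod_orderOf z (i.val + j.val)
  rwa [hz] at this

theorem zp_one : zp z (1 : ZMod p) = z := by
  have := zp_natCast hz 1
  rwa [Nat.cast_one, pow_one] at this

theorem zp_pow (i : ZMod p) (k : ℕ) : (zp z i) ^ k = zp z ((k : ZMod p) * i) := by
  have h1 : ((k : ZMod p) * i) = ((i.val * k : ℕ) : ZMod p) := by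
    rw [Nat.cast_mul, ZMod.natCast_zmod_val, mul_comm]
  rw [h1, zp_natCast hz, zp, pow_mul]

theorem zp_inj {i j : ZMod p} (h : zp z i = zp z j) : i = j := by
  rw [zp, zp, pow_eq_pow_iff_modEq, hz] at h
  have h2 := (ZMod.natCast_eq_natCast_iff _ _ _).2 h
  rwa [ZMod.natCast_zmod_val, ZMod.natCast_zmod_val] at h2

omit hz in
theorem zp_zero : zp z (0 : ZMod p) = 1 := by
  rw [zp, ZMod.val_zero, pow_zero]

theorem zp_neg (i : ZMod p) : (zp z i)⁻¹ = zp z (-i) := by
  rw [inv_eq_iff_mul_eq_one, ← zp_add hz, add_neg_cancel, zp_zero]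

end zp

section main

variable {G : Type*} [Group G] [Finite G] {p m : ℕ} [Fact p.Prime]

theorem card_sylow_eq (hp : p = 2 * m + 1) (hG : Nat.card G = (p + 1) * (p * m)) (P : Sylow p G) :
    Nat.card P = p := by
  have hpp := (Fact.out : p.Prime)
  have hm0 : m ≠ 0 := by
    rintro rfl
    have := hpp.one_lt
    omega
  rw [Sylow.card_eq_multiplicity, hG,
    Nat.factorization_mul (by omega) (mul_ne_zero hpp.ne_zero hm0),
    Nat.factorization_mul hpp.ne_zero hm0]
  simp only [Finsupp.add_apply]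
  rw [Nat.factorization_eq_zero_of_not_dvd (n := p + 1), hpp.factorization_self,
    Nat.factorization_eq_zero_of_not_dvd (n := m)]
  · simp
  · exact Nat.not_dvd_of_pos_of_lt (Nat.pos_of_ne_zero hm0) (by omega)
  · intro h
    have := (Nat.dvd_add_right (dvd_refl p)).1 h
    exact hpp.one_lt.ne' (Nat.dvd_one.1 this)

theorem exists_rho [IsSimpleGroup G] (hp : p = 2 * m + 1) (hG : Nat.card G = (p + 1) * (p * m))
    (hn : Nat.card (Sylow p G) = p + 1) :
    ∃ ρ : G →* Equiv.Perm (Option (ZMod p)), Function.Injective ρ ∧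
      ∀ g, ρ g none = none → ∃ a b, a ^ m = 1 ∧ IsAff (ρ g) a b := by
  classical
  have hpp := (Fact.out : p.Prime)
  obtain ⟨P0⟩ : Nonempty (Sylow p G) := inferInstance
  have hP0 := card_sylow_eq hp hG P0
  obtain ⟨z, hzP, hz1⟩ : ∃ z ∈ (P0 : Subgroup G), z ≠ 1 := by
    have : (P0 : Subgroup G) ≠ ⊥ := by
      intro h
      have h2 : Nat.card (P0 : Subgroup G) = 1 := by rw [h]; exact Subgroup.card_bot
      have h3 := hpp.one_lt
      have h4 : Nat.card (P0 : Subgroup G) = p := hP0
      omega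
    exact Subgroup.ne_bot_iff_exists_ne_one.1 this |>.elim fun x hx =>
      ⟨x.1, x.2, fun h => hx (Subtype.ext h)⟩
  have hz : orderOf z = p := by
    have h1 : orderOf z ∣ p := by
      rw [← hP0]; exact Subgroup.orderOf_dvd_natCard _ hzP
    rcases (Nat.dvd_prime hpp).1 h1 with h | h
    · exact absurd (orderOf_eq_one_iff.1 h) hz1
    · exact h
  have hzP0 : Subgroup.zpowers z = (P0 : Subgroup G) := by
    apply Subgroup.eq_of_le_of_card_ge (Subgroup.zpowers_le.2 hzP)
    rw [Nat.card_zpowers, hz]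
    exact hP0.le
  have hzpP : ∀ i : ZMod p, zp z i ∈ (P0 : Subgroup G) := fun i => Subgroup.pow_mem _ hzP _
  have hfixP : ∀ i : ZMod p, zp z i • P0 = P0 := fun i =>
    Sylow.smul_eq_iff_mem_normalizer.2 (Subgroup.le_normalizer (hzpP i))
  have hkey : ∀ k : ZMod p, k ≠ 0 → ∀ Q : Sylow p G, zp z k • Q = Q → Q = P0 := by
    intro k hk Q hQ
    have h1 : zp z k ∈ (P0 : Subgroup G) ⊓ Subgroup.normalizer (Q : Set G) :=
      Subgroup.mem_inf.2 ⟨hzpP k, Sylow.smul_eq_iff_mem_normalizer.1 hQ⟩
    rw [P0.2.inf_normalizer_sylow Q] at h1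
    have h2 : z ∈ (Q : Subgroup G) := by
      have : (zp z k) ^ (k⁻¹).val = z := by
        rw [zp_pow hz, ZMod.natCast_zmod_val, inv_mul_cancel₀ hk, zp_one hz]
      rw [← this]; exact Subgroup.pow_mem _ (Subgroup.mem_inf.1 h1).2 _
    have h3 : (P0 : Subgroup G) ≤ Q := by rw [← hzP0]; exact Subgroup.zpowers_le.2 h2
    exact (Sylow.ext (Subgroup.eq_of_le_of_card_ge h3
      (by rw [show Nat.card (P0 : Subgroup G) = p from hP0]
          exact (card_sylow_eq hp hG Q).le))).symm
  obtain ⟨Q0, hQ0⟩ : ∃ Q0 : Sylow p G, Q0 ≠ P0 := by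
    have : Nontrivial (Sylow p G) := by
      rw [← Finite.one_lt_card_iff_nontrivial, hn]
      have := hpp.pos
      omega
    exact exists_ne P0
  obtain ⟨e, he0, he1⟩ : ∃ e : Option (ZMod p) → Sylow p G, e none = P0 ∧
      ∀ i, e (some i) = zp z i • Q0 := ⟨fun x => x.elim P0 (fun i => zp z i • Q0), rfl, fun _ => rfl⟩
  have hact : ∀ i j : ZMod p, zp z i • e (some j) = e (some (i + j)) := by
    intro i j
    rw [he1, he1, smul_smul, ← zp_add hz]
  have hne : ∀ i : ZMod p, e (some i) ≠ P0 := by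
    intro i h
    apply hQ0
    have h1 : zp z (-i) • e (some i) = e (some 0) := by rw [hact, neg_add_cancel]
    rw [h, hfixP, he1, zp_zero, one_smul] at h1
    exact h1.symm
  have hinj : Function.Injective e := by
    intro x y hxy
    cases x with
    | none =>
      cases y with
      | none => rfl
      | some j => rw [he0] at hxy; exact absurd hxy.symm (hne j)
    | some i =>
      cases y with
      | none => rw [he0] at hxy; exact absurd hxy (hne i)
      | some j =>
        by_contra hij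
        have hij' : i - j ≠ 0 := fun h => hij (by rw [sub_eq_zero.1 h])
        have h1 : zp z (i - j) • e (some j) = e (some j) := by
          rw [hact, sub_add_cancel, hxy]
        exact hne j (hkey _ hij' _ h1)
  have hbij : Function.Bijective e := by
    rw [Nat.bijective_iff_injective_and_card]
    refine ⟨hinj, ?_⟩
    rw [hn, Nat.card_eq_fintype_card, Fintype.card_option, ZMod.card]
  obtain ⟨E, hE⟩ : ∃ E : Option (ZMod p) ≃ Sylow p G, ∀ x, E x = e x :=
    ⟨Equiv.ofBijective e hbij, fun _ => rfl⟩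
  obtain ⟨ρ, hρ⟩ : ∃ ρ : G →* Equiv.Perm (Option (ZMod p)), ∀ g x, ρ g x = E.symm (g • E x) :=
    ⟨(E.symm.permCongrHom).toMonoidHom.comp (MulAction.toPermHom G (Sylow p G)), fun _ _ => rfl⟩
  have hρ1 : ∀ g x y, ρ g x = y ↔ g • e x = e y := by
    intro g x y
    rw [hρ, Equiv.symm_apply_eq, hE, hE]
  have hρz : ∀ i j : ZMod p, ρ (zp z i) (some j) = some (i + j) := fun i j =>
    (hρ1 _ _ _).2 (hact i j)
  have hρinj : Function.Injective ρ := by
    rw [← MonoidHom.ker_eq_bot_iff]
    rcases (MonoidHom.normal_ker ρ).eq_bot_or_eq_top with h | h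
    · exact h
    · exfalso
      have h1 : zp z (1 : ZMod p) ∈ ρ.ker := by rw [h]; trivial
      rw [MonoidHom.mem_ker] at h1
      have h2 := hρz 1 0
      rw [h1] at h2
      simp at h2
  refine ⟨ρ, hρinj, ?_⟩
  intro g hg
  have hgN : g ∈ Subgroup.normalizer ((P0 : Subgroup G) : Set G) := by
    rw [hρ1, he0] at hg
    exact Sylow.smul_eq_iff_mem_normalizer.1 hg
  -- the multiplier
  obtain ⟨a, ha⟩ : ∃ a : ZMod p, g * z * g⁻¹ = zp z a := by
    have h1 : g * z * g⁻¹ ∈ (P0 : Subgroup G) := (Subgroup.mem_normalizer_iff.1 hgN z).1 hzP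
    rw [← hzP0] at h1
    obtain ⟨k, hk⟩ := (mem_zpowers_iff_mem_range_orderOf (x := z)).1 h1 |> Finset.mem_image.1
    exact ⟨(k : ZMod p), by rw [zp_natCast hz, hk.2]⟩
  have hconj : ∀ i : ZMod p, g * zp z i * g⁻¹ = zp z (a * i) := by
    intro i
    rw [zp, ← conj_pow, ha, zp_pow hz, ZMod.natCast_zmod_val, mul_comm]
  have hpow : ∀ n : ℕ, g ^ n * z * (g ^ n)⁻¹ = zp z (a ^ n) := by
    intro n
    induction n with
    | zero => simp [zp_one hz]
    | succ n ih =>
      have : g ^ (n + 1) * z * (g ^ (n + 1))⁻¹ = g * (g ^ n * z * (g ^ n)⁻¹) * g⁻¹ := by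
        rw [pow_succ']; group
      rw [this, ih, hconj, pow_succ']
  have hcardN : Nat.card (Subgroup.normalizer ((P0 : Subgroup G) : Set G)) = p * m := by
    have h1 := Subgroup.card_mul_index (Subgroup.normalizer ((P0 : Subgroup G) : Set G))
    have h0 : (Subgroup.normalizer ((P0 : Subgroup G) : Set G)).index = p + 1 := by
      rw [← hn]; exact (Sylow.card_eq_index_normalizer P0).symm
    rw [h0, hG, mul_comm] at h1
    exact Nat.eq_of_mul_eq_mul_left (Nat.succ_pos p) h1
  have ham : a ^ m = 1 := by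
    have h1 : g ^ (p * m) = 1 := by
      have := pow_card_eq_one' (G := Subgroup.normalizer ((P0 : Subgroup G) : Set G)) (x := ⟨g, hgN⟩)
      rw [hcardN] at this
      exact congrArg Subtype.val this
    have h2 := hpow (p * m)
    rw [h1, one_mul, inv_one, mul_one] at h2
    have h3 : a ^ (p * m) = 1 := by
      apply zp_inj hz
      rw [← h2, zp_one hz]
    rwa [pow_mul, ZMod.pow_card] at h3
  -- the translation part
  obtain ⟨b, hb⟩ : ∃ b, ρ g (some 0) = some b := by
    apply Option.ne_none_iff_exists'.1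
    intro h
    have := (ρ g).injective (h.trans hg.symm)
    simp at this
  refine ⟨a, b, ham, hg, ?_⟩
  intro x
  rw [hρ1] at hb ⊢
  have h1 : e (some x) = zp z x • e (some 0) := by rw [hact, add_zero]
  rw [h1, smul_smul]
  have h2 : g * zp z x = zp z (a * x) * g := by
    rw [← hconj]; group
  rw [h2, ← smul_smul, hb, hact]

end main

end Cfsg.Agent.Lib.Helper12.L2
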