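import Mathlib
import Cfsg.Agent.Lib.Helper12.L2Perm
import Cfsg.Agent.Lib.Helper12.L2Grp
import Cfsg.Agent.Lib.Helper12.L2Mob
import Cfsg.Agent.Lib.Helper6.SLCard
import Cfsg.Agent.Lib.Helper6.SLEquiv

/-!
# Recognising `PSL(2,p)`: a simple group of order `p (p^2-1)/2` with `p+1` Sylow `p`-subgroups
-/

set_option autoImplicit false
set_option linter.unusedSectionVars false

namespace Cfsg.Agent.Lib.Helper12.L2

open Matrix

theorem card_psl {p m : ℕ} [Fact p.Prime] (hp : p = 2 * m + 1) :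
    Nat.card (ProjectiveSpecialLinearGroup (Fin 2) (ZMod p)) = (p + 1) * (p * m) := by
  have h := Cfsg.Agent.Lib.Helper6.card_PSL_field (F := ZMod p) 2 (by norm_num)
  rw [ZMod.card, Fin.prod_univ_two] at h
  have hm0 : 0 < m := by
    have := (Fact.out : p.Prime).one_lt
    omega
  have h1 : p - 1 = 2 * m := by omega
  have h2 : Nat.gcd 2 (2 * m) = 2 := Nat.gcd_eq_left (Dvd.intro _ rfl)
  have h3 : p ^ 2 - p ^ ((0 : Fin 2) : ℕ) = 4 * m * (m + 1) := by
    apply Nat.sub_eq_of_eq_add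
    rw [hp]; simp; ring
  have h4 : p ^ 2 - p ^ ((1 : Fin 2) : ℕ) = 2 * m * p := by
    apply Nat.sub_eq_of_eq_add
    rw [hp]; simp; ring
  rw [h1, h2, h3, h4] at h
  have h5 : 4 * m * Nat.card (ProjectiveSpecialLinearGroup (Fin 2) (ZMod p))
      = 4 * m * ((p + 1) * (p * m)) := by
    have : p + 1 = 2 * (m + 1) := by omega
    rw [this]
    linarith [h]
  exact Nat.eq_of_mul_eq_mul_left (by omega) h5

theorem recognise_of {G : Type*} [Group G] [Finite G] [IsSimpleGroup G] {p m : ℕ} [Fact p.Prime]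
    {g : ZMod p} (hN : Num p m g) (E : ZMod p → Bool) (hchk : Check p m g E)
    (hG : Nat.card G = (p + 1) * (p * m)) (hn : Nat.card (Sylow p G) = p + 1)
    (HE : ∀ ρ : G →* Equiv.Perm (Option (ZMod p)), Function.Injective ρ →
      (∀ x, ρ x none = none → ∃ a b, a ^ m = 1 ∧ IsAff (ρ x) a b) →
      ∀ w h : G, ρ w none = some 0 → ρ w (some 0) = none → IsAff (ρ h) (g ^ 2) 0 →
      ∀ a', IsAff (ρ (w * h * w⁻¹)) a' 0 → E a' = true)
    {F : Type*} [Field F] [Fintype F] (hF : Fintype.card F = p) :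
    Nonempty (G ≃* ProjectiveSpecialLinearGroup (Fin 2) F) := by
  classical
  obtain ⟨ρ, hρ, hρ1⟩ := exists_rho hN.hp hG hn
  have H1 : ∀ γ ∈ ρ.range, γ none = none → ∃ a b, a ^ m = 1 ∧ IsAff γ a b := by
    rintro _ ⟨x, rfl⟩ hx
    exact hρ1 x hx
  have eG : G ≃* ρ.range := MonoidHom.ofInjective hρ
  have hcard : Nat.card ρ.range = (p + 1) * (p * m) := by
    rw [← Nat.card_congr eG.toEquiv, hG]
  obtain ⟨H2, H3⟩ := exists_aff hN ρ.range H1 hcard
  have hW := main_perm hN E hchk ρ.range H1 H2 H3 (by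
    rintro _ ⟨w, rfl⟩ hwa hwb _ ⟨h, rfl⟩ hh a' ha'
    refine HE ρ hρ hρ1 w h hwa hwb hh a' ?_
    rw [map_mul, map_mul, map_inv]
    exact ha')
  have hle := mobHom_range_le ρ.range (fun b => H2 1 b (one_pow m)) hW
  obtain ⟨e1⟩ := nonempty_equiv_of_range ρ.range hle (by rw [hcard, card_psl hN.hp])
  have e2 : ZMod p ≃+* F := ZMod.ringEquivOfPrime F Fact.out hF
  exact ⟨(eG.trans e1).trans (Cfsg.Agent.Lib.Helper6.pslEquiv e2)⟩

theorem recognise {G : Type*} [Group G] [Finite G] [IsSimpleGroup G] {p m : ℕ} [Fact p.Prime]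
    {g : ZMod p} (hN : Num p m g) (hchk : Check p m g (fun _ => true))
    (hG : Nat.card G = (p + 1) * (p * m)) (hn : Nat.card (Sylow p G) = p + 1)
    {F : Type*} [Field F] [Fintype F] (hF : Fintype.card F = p) :
    Nonempty (G ≃* ProjectiveSpecialLinearGroup (Fin 2) F) :=
  recognise_of hN _ hchk hG hn (fun _ _ _ _ _ _ _ _ _ _ => rfl) hF

theorem card_sylow_of_check {G : Type*} [Group G] [Finite G] [IsSimpleGroup G] {p m : ℕ}
    [Fact p.Prime] (hp : p = 2 * m + 1) (hG : Nat.card G = (p + 1) * (p * m))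
    (hchk : ∀ n, n < (p + 1) * m + 1 → n ∣ (p + 1) * m → n % p = 1 → n = 1 ∨ n = p + 1) :
    Nat.card (Sylow p G) = p + 1 := by
  have hpp := (Fact.out : p.Prime)
  have hm0 : 0 < m := by
    have := hpp.one_lt
    omega
  obtain ⟨P⟩ : Nonempty (Sylow p G) := inferInstance
  have hP := card_sylow_eq hp hG P
  have hidx : (P : Subgroup G).index = (p + 1) * m := by
    have h1 := Subgroup.card_mul_index (P : Subgroup G)
    rw [show Nat.card (P : Subgroup G) = p from hP, hG] at h1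
    have h2 : p * (P : Subgroup G).index = p * ((p + 1) * m) := by rw [h1]; ring
    exact Nat.eq_of_mul_eq_mul_left hpp.pos h2
  have h1 : Nat.card (Sylow p G) ∣ (p + 1) * m := hidx ▸ Sylow.card_dvd_index P
  have h2 : Nat.card (Sylow p G) % p = 1 := by
    have := card_sylow_modEq_one p G
    rw [Nat.ModEq, Nat.mod_eq_of_lt hpp.one_lt] at this
    exact this
  have h3 : Nat.card (Sylow p G) < (p + 1) * m + 1 :=
    Nat.lt_succ_of_le (Nat.le_of_dvd (Nat.mul_pos (Nat.succ_pos p) hm0) h1)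
  rcases hchk _ h3 h1 h2 with h | h
  · exfalso
    have : Subsingleton (Sylow p G) := (Nat.card_eq_one_iff_unique.1 h).1
    have hnorm : (P : Subgroup G).Normal := Sylow.normal_of_subsingleton P
    rcases hnorm.eq_bot_or_eq_top with hb | ht
    · have h4 : Nat.card (P : Subgroup G) = 1 := by rw [hb]; exact Subgroup.card_bot
      rw [show Nat.card (P : Subgroup G) = p from hP] at h4
      exact hpp.one_lt.ne' h4
    · have h4 : (P : Subgroup G).index = 1 := by rw [ht]; exact Subgroup.index_top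
      rw [hidx] at h4
      have := Nat.eq_one_of_mul_eq_one_right h4
      have := hpp.pos
      omega
  · exact h

end Cfsg.Agent.Lib.Helper12.L2
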