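import Mathlib
import Cfsg.Agent.Lib.Helper12.L2Main

/-!
# Recognising `PSL(2,p)`: the numerical checks for `p = 11, 13, 17, 19, 23`
-/

set_option autoImplicit false

namespace Cfsg.Agent.Lib.Helper12.L2

open Matrix

instance fact11 : Fact (Nat.Prime 11) := ⟨by norm_num⟩
instance fact13 : Fact (Nat.Prime 13) := ⟨by norm_num⟩
instance fact17 : Fact (Nat.Prime 17) := ⟨by norm_num⟩
instance fact19 : Fact (Nat.Prime 19) := ⟨by norm_num⟩
instance fact23 : Fact (Nat.Prime 23) := ⟨by norm_num⟩

theorem num11 : Num 11 5 2 where
  hp := by norm_num
  hg := by decide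
  cover := by decide
  roots := by rw [Nat.card_eq_fintype_card]; decide

set_option maxRecDepth 100000 in
theorem check11 : Check 11 5 2 (fun _ => true) := by
  unfold Check
  decide +kernel

set_option maxRecDepth 100000 in
theorem psl11 {G : Type*} [Group G] [Finite G] [IsSimpleGroup G] (h : Nat.card G = 660)
    {F : Type*} [Field F] [Fintype F] (hF : Fintype.card F = 11) :
    Nonempty (G ≃* ProjectiveSpecialLinearGroup (Fin 2) F) :=
  recognise num11 check11 (by rw [h]) (card_sylow_of_check (m := 5) (by norm_num) (by rw [h])
    (by decide +kernel)) hF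

theorem num13 : Num 13 6 2 where
  hp := by norm_num
  hg := by decide
  cover := by decide
  roots := by rw [Nat.card_eq_fintype_card]; decide

set_option maxRecDepth 100000 in
theorem check13 : Check 13 6 2 (fun _ => true) := by
  unfold Check
  decide +kernel

set_option maxRecDepth 100000 in
theorem psl13 {G : Type*} [Group G] [Finite G] [IsSimpleGroup G] (h : Nat.card G = 1092)
    {F : Type*} [Field F] [Fintype F] (hF : Fintype.card F = 13) :
    Nonempty (G ≃* ProjectiveSpecialLinearGroup (Fin 2) F) :=
  recognise num13 check13 (by rw [h]) (card_sylow_of_check (m := 6) (by norm_num) (by rw [h])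
    (by decide +kernel)) hF

theorem num17 : Num 17 8 3 where
  hp := by norm_num
  hg := by decide
  cover := by decide
  roots := by rw [Nat.card_eq_fintype_card]; decide

set_option maxRecDepth 100000 in
theorem check17 : Check 17 8 3 (fun _ => true) := by
  unfold Check
  decide +kernel

set_option maxRecDepth 100000 in
theorem psl17 {G : Type*} [Group G] [Finite G] [IsSimpleGroup G] (h : Nat.card G = 2448)
    {F : Type*} [Field F] [Fintype F] (hF : Fintype.card F = 17) :
    Nonempty (G ≃* ProjectiveSpecialLinearGroup (Fin 2) F) :=
  recognise num17 check17 (by rw [h]) (card_sylow_of_check (m := 8) (by norm_num) (by rw [h])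
    (by decide +kernel)) hF

theorem num19 : Num 19 9 2 where
  hp := by norm_num
  hg := by decide
  cover := by decide
  roots := by rw [Nat.card_eq_fintype_card]; decide

set_option maxRecDepth 100000 in
theorem check19 : Check 19 9 2 (fun _ => true) := by
  unfold Check
  decide +kernel

set_option maxRecDepth 100000 in
theorem psl19 {G : Type*} [Group G] [Finite G] [IsSimpleGroup G] (h : Nat.card G = 3420)
    {F : Type*} [Field F] [Fintype F] (hF : Fintype.card F = 19) :
    Nonempty (G ≃* ProjectiveSpecialLinearGroup (Fin 2) F) :=
  recognise num19 check19 (by rw [h]) (card_sylow_of_check (m := 9) (by norm_num) (by rw [h])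
    (by decide +kernel)) hF

theorem num23 : Num 23 11 5 where
  hp := by norm_num
  hg := by decide
  cover := by decide
  roots := by rw [Nat.card_eq_fintype_card]; decide

set_option maxRecDepth 100000 in
theorem check23 : Check 23 11 5 (fun _ => true) := by
  unfold Check
  decide +kernel

set_option maxRecDepth 100000 in
theorem psl23 {G : Type*} [Group G] [Finite G] [IsSimpleGroup G] (h : Nat.card G = 6072)
    {F : Type*} [Field F] [Fintype F] (hF : Fintype.card F = 23) :
    Nonempty (G ≃* ProjectiveSpecialLinearGroup (Fin 2) F) :=
  recognise num23 check23 (by rw [h]) (card_sylow_of_check (m := 11) (by norm_num) (by rw [h])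
    (by decide +kernel)) hF

end Cfsg.Agent.Lib.Helper12.L2
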