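import Mathlib
import Cfsg.Agent.Lib.Helper12.L2Main

/-!
# Recognising `PSL(2,7)`: the case `p = 7`, where `AΓL(1,8)` has to be excluded
-/

set_option autoImplicit false

namespace Cfsg.Agent.Lib.Helper12.L2

open Matrix

/-- Burnside's transfer theorem in a simple group, for a Sylow subgroup of prime order -/
theorem false_of_normalizer_centralizes {X : Type*} [Group X] [Finite X] [IsSimpleGroup X]
    {q k : ℕ} [Fact q.Prime] (hX : Nat.card X = q * k) (hk : ¬ q ∣ k) (hk1 : 1 < k) (h : X)
    (hh : orderOf h = q)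
    (hN : ∀ x : X, x * h * x⁻¹ ∈ Subgroup.zpowers h → x * h = h * x) : False := by
  have hq := (Fact.out : q.Prime)
  have hcard : Nat.card (Subgroup.zpowers h) = q := by rw [Nat.card_zpowers, hh]
  have hfac : (Nat.card X).factorization q = 1 := by
    rw [hX, Nat.factorization_mul hq.ne_zero (by omega)]
    simp only [Finsupp.add_apply]
    rw [hq.factorization_self, Nat.factorization_eq_zero_of_not_dvd hk]
  obtain ⟨P, hP⟩ : ∃ P : Sylow q X, (P : Subgroup X) = Subgroup.zpowers h :=
    ⟨Sylow.ofCard (Subgroup.zpowers h) (by rw [hcard, hfac, pow_one]), Sylow.coe_ofCard _ _⟩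
  have hNC : Subgroup.normalizer ((P : Subgroup X) : Set X)
      ≤ Subgroup.centralizer ((P : Subgroup X) : Set X) := by
    intro x hx
    rw [hP] at hx ⊢
    have h1 : x * h * x⁻¹ ∈ Subgroup.zpowers h :=
      (Subgroup.mem_normalizer_iff.1 hx h).1 (Subgroup.mem_zpowers h)
    have h2 := hN x h1
    rw [Subgroup.mem_centralizer_iff]
    intro y hy
    obtain ⟨n, rfl⟩ := Subgroup.mem_zpowers_iff.1 hy
    exact ((Commute.zpow_right (show Commute x h from h2) n).eq).symm
  have hc := MonoidHom.ker_transferSylow_isComplement' P hNC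
  have hmul := hc.card_mul_card
  rw [show Nat.card (P : Subgroup X) = q by rw [hP, hcard], hX] at hmul
  rcases (MonoidHom.normal_ker (MonoidHom.transferSylow P hNC)).eq_bot_or_eq_top with hb | ht
  · rw [hb, Subgroup.card_bot, one_mul] at hmul
    have : q * 1 = q * k := by rw [mul_one]; exact hmul
    have := Nat.eq_of_mul_eq_mul_left hq.pos this
    omega
  · rw [ht, Subgroup.card_top, hX] at hmul
    have h3 : q * k * q = q * k * 1 := by rw [mul_one]; exact hmul
    have := Nat.eq_of_mul_eq_mul_left (Nat.mul_pos hq.pos (by omega)) h3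
    exact hq.one_lt.ne' this

instance fact7 : Fact (Nat.Prime 7) := ⟨by norm_num⟩
instance fact3 : Fact (Nat.Prime 3) := ⟨by norm_num⟩

theorem num7 : Num 7 3 3 where
  hp := by norm_num
  hg := by decide
  cover := by decide
  roots := by rw [Nat.card_eq_fintype_card]; decide

set_option maxRecDepth 100000 in
theorem check7 : Check 7 3 3 (fun a => a != 3 ^ 2) := by
  unfold Check
  decide +kernel

theorem isAff_ext {p : ℕ} {γ γ' : Equiv.Perm (Option (ZMod p))} {a b : ZMod p}
    (h : IsAff γ a b) (h' : IsAff γ' a b) : γ = γ' := by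
  apply Equiv.ext
  intro x
  cases x with
  | none => rw [h.1, h'.1]
  | some x => rw [h.2, h'.2]

theorem he7 {G : Type*} [Group G] [Finite G] [IsSimpleGroup G] (hG : Nat.card G = 168)
    (ρ : G →* Equiv.Perm (Option (ZMod 7))) (hρ : Function.Injective ρ)
    (hρ1 : ∀ x, ρ x none = none → ∃ a b, a ^ 3 = 1 ∧ IsAff (ρ x) a b)
    (w h : G) (hwa : ρ w none = some 0) (hwb : ρ w (some 0) = none)
    (hh : IsAff (ρ h) (3 ^ 2) 0) (a' : ZMod 7) (ha' : IsAff (ρ (w * h * w⁻¹)) a' 0) :
    (a' != 3 ^ 2) = true := by
  rw [bne_iff_ne]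
  rintro rfl
  have hwh : w * h = h * w := by
    have := hρ (isAff_ext ha' hh)
    rw [mul_inv_eq_iff_eq_mul] at this
    exact this
  have hfix : ∀ y, ρ h y = y → y = none ∨ y = some 0 := by
    intro y hy
    cases y with
    | none => exact Or.inl rfl
    | some t =>
      right
      rw [hh.2] at hy
      have h1 := Option.some.inj hy
      congr 1
      revert h1
      revert t
      decide
  have hh1 : h ≠ 1 := by
    rintro rfl
    have := hh.2 1
    rw [map_one] at this
    revert this
    decide
  have hh3 : h ^ 3 = 1 := by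
    apply hρ
    rw [map_pow, map_one]
    apply Equiv.ext
    intro y
    cases y with
    | none => simp [pow_succ, Equiv.Perm.mul_apply, hh.1]
    | some t =>
      simp only [pow_succ, pow_zero, one_mul, Equiv.Perm.mul_apply, hh.2, Equiv.Perm.one_apply]
      congr 1
      revert t
      decide
  have hord : orderOf h = 3 := orderOf_eq_prime hh3 hh1
  have hA : ∀ x, ρ x none = none → ρ x (some 0) = some 0 → x * h = h * x := by
    intro x h1 h2
    obtain ⟨a, b, -, hab⟩ := hρ1 x h1
    have hb : b = 0 := by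
      rw [hab.2, mul_zero, zero_add] at h2
      exact Option.some.inj h2
    subst hb
    apply hρ
    rw [map_mul, map_mul]
    apply Equiv.ext
    intro y
    cases y with
    | none => simp [Equiv.Perm.mul_apply, hh.1, hab.1]
    | some t =>
      simp only [Equiv.Perm.mul_apply, hh.2, hab.2]
      congr 1
      ring
  refine false_of_normalizer_centralizes (q := 3) (k := 56) (by rw [hG]) (by norm_num)
    (by norm_num) h hord ?_
  intro x hx
  have hgen : h ∈ Subgroup.zpowers (x * h * x⁻¹) := by
    have h1 : Subgroup.zpowers (x * h * x⁻¹) = Subgroup.zpowers h := by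
      apply Subgroup.eq_of_le_of_card_ge (Subgroup.zpowers_le.2 hx)
      rw [Nat.card_zpowers, Nat.card_zpowers]
      have : orderOf (x * h * x⁻¹) = orderOf h :=
        orderOf_injective (MulAut.conj x).toMonoidHom (MulAut.conj x).injective h
      rw [this]
    rw [h1]; exact Subgroup.mem_zpowers h
  obtain ⟨n, hn⟩ := Subgroup.mem_zpowers_iff.1 hgen
  have hfx : ∀ y, ρ h y = y → ρ h (ρ x y) = ρ x y := by
    intro y hy
    have h1 : ρ (x * h * x⁻¹) (ρ x y) = ρ x y := by
      rw [map_mul, map_mul, map_inv]
      simp [Equiv.Perm.mul_apply, hy]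
    rw [← hn, map_zpow]
    exact Equiv.Perm.zpow_apply_eq_self_of_apply_eq_self h1 n
  have h0 : ρ h (some 0) = some 0 := by rw [hh.2]; simp
  rcases hfix _ (hfx none hh.1) with h1 | h1
  · rcases hfix _ (hfx (some 0) h0) with h2 | h2
    · have := (ρ x).injective (h1.trans h2.symm)
      simp at this
    · exact hA x h1 h2
  · have h2 : ρ x (some 0) = none := by
      rcases hfix _ (hfx (some 0) h0) with h2 | h2
      · exact h2
      · have := (ρ x).injective (h1.trans h2.symm)
        simp at this
    have h3 : (w⁻¹ * x) * h = h * (w⁻¹ * x) := by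
      apply hA
      · rw [map_mul, map_inv, Equiv.Perm.mul_apply, h1, Equiv.Perm.inv_eq_iff_eq, hwa]
      · rw [map_mul, map_inv, Equiv.Perm.mul_apply, h2, Equiv.Perm.inv_eq_iff_eq, hwb]
    have h4 : x = w * (w⁻¹ * x) := by group
    rw [h4, mul_assoc, h3, ← mul_assoc, hwh, mul_assoc]

set_option maxRecDepth 100000 in
theorem psl7 {G : Type*} [Group G] [Finite G] [IsSimpleGroup G] (h : Nat.card G = 168)
    {F : Type*} [Field F] [Fintype F] (hF : Fintype.card F = 7) :
    Nonempty (G ≃* ProjectiveSpecialLinearGroup (Fin 2) F) :=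
  recognise_of num7 _ check7 (by rw [h]) (card_sylow_of_check (m := 3) (by norm_num) (by rw [h])
    (by decide +kernel)) (fun ρ hρ hρ1 w x hwa hwb hh a' ha' => he7 h ρ hρ hρ1 w x hwa hwb hh a' ha')
    hF

end Cfsg.Agent.Lib.Helper12.L2
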