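import Mathlib
import Cfsg.Agent.Lib.Helper12.MinNormal

set_option autoImplicit false

namespace Cfsg.Agent.Lib.Helper12

universe u

theorem IsMinNormal.map_equiv {G H : Type*} [Group G] [Group H] (φ : G ≃* H) {M : Subgroup G}
    (hM : IsMinNormal M) : IsMinNormal (M.map φ.toMonoidHom) := by
  obtain ⟨hn, hne, hmin⟩ := hM
  refine ⟨hn.map _ φ.surjective, ?_, ?_⟩
  · rw [Ne, Subgroup.map_eq_bot_iff_of_injective _ φ.injective]
    exact hne
  · intro K hKn hK
    have h1 : K.comap φ.toMonoidHom ≤ M := by
      intro x hx
      obtain ⟨y, hy, hxy⟩ := hK hx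
      have : y = x := φ.injective hxy
      rwa [← this]
    have h2 : (K.comap φ.toMonoidHom).map φ.toMonoidHom = K :=
      Subgroup.map_comap_eq_self_of_surjective φ.surjective K
    rcases hmin _ (hKn.comap _) h1 with h | h
    · left; rw [← h2, h, Subgroup.map_bot]
    · right; rw [← h2, h]

/-- the socle: join of all minimal normal subgroups -/
def socle (G : Type*) [Group G] : Subgroup G := sSup {M | IsMinNormal M}

theorem socle_characteristic (G : Type*) [Group G] : (socle G).Characteristic := by
  rw [Subgroup.characteristic_iff_map_le]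
  intro φ
  rw [socle, sSup_eq_iSup, Subgroup.map_iSup]
  apply iSup_le
  intro M
  rw [Subgroup.map_iSup]
  apply iSup_le
  intro hM
  exact le_iSup₂_of_le (M.map φ.toMonoidHom) (IsMinNormal.map_equiv φ hM) le_rfl

theorem socle_le_normalizer_aux (n : ℕ) : ∀ (G : Type u) [Group G] [Finite G], Nat.card G = n →
    ∀ S : Subgroup G, S.IsSubnormal → socle G ≤ Subgroup.normalizer (S : Set G) := by
  induction n using Nat.strong_induction_on with
  | _ n ih =>
    intro G _ _ hcard S hS
    by_cases hST : S = ⊤
    · rw [hST, Subgroup.normalizer_eq_top]; exact le_top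
    obtain ⟨K, hKn, hSK, hKlt⟩ := hS.exists_normal_and_le_and_lt_top_of_ne hST
    apply sSup_le
    intro M hM
    have hMn : M.Normal := hM.1
    by_cases hMK : M ⊓ K = ⊥
    · have h1 : M ≤ Subgroup.centralizer (K : Set G) := by
        intro a ha b hb
        exact (Subgroup.commute_of_normal_of_disjoint M K hMn hKn
          (disjoint_iff.2 hMK) a b ha hb).symm
      exact h1.trans ((Subgroup.centralizer_le hSK).trans (Subgroup.centralizer_le_normalizer _))
    · have hMleK : M ≤ K := by
        rcases hM.2.2 (M ⊓ K) inferInstance inf_le_left with h | h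
        · exact absurd h hMK
        · rw [← h]; exact inf_le_right
      have hcardK : Nat.card K < n := by
        rw [← hcard]
        have h1 := Subgroup.card_mul_index K
        have h2 : 1 < K.index := Subgroup.one_lt_index_of_ne_top hKlt.ne
        have h3 : 0 < Nat.card K := Nat.card_pos
        nlinarith
      have ihK := ih _ hcardK K rfl (S.subgroupOf K) hS.subgroupOf
      have hchar := socle_characteristic K
      set T := (socle K).map K.subtype with hT
      have hTn : T.Normal := inferInstance
      have hTS : T ≤ Subgroup.normalizer (S : Set G) := by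
        rintro _ ⟨x, hx, rfl⟩
        have := ihK hx
        rw [← Subgroup.subgroupOf_normalizer_eq hSK] at this
        exact this
      have hne : M.subgroupOf K ≠ ⊥ := by
        intro h
        rw [Subgroup.subgroupOf_eq_bot, disjoint_iff] at h
        exact hMK h
      obtain ⟨M₀, hM₀le, hM₀⟩ := exists_minNormal_le (M.subgroupOf K) inferInstance hne
      have hMT : M ⊓ T ≠ ⊥ := by
        intro h
        apply hM₀.2.1
        rw [eq_bot_iff]
        intro x hx
        have h1 : (x : G) ∈ M ⊓ T :=
          ⟨hM₀le hx, ⟨x, (le_sSup (a := M₀) hM₀) hx, rfl⟩⟩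
        rw [h, Subgroup.mem_bot] at h1
        exact Subtype.ext h1
      rcases hM.2.2 (M ⊓ T) inferInstance inf_le_left with h | h
      · exact absurd h hMT
      · rw [← h]; exact inf_le_right.trans hTS

theorem IsMinNormal.le_normalizer_of_isSubnormal {G : Type*} [Group G] [Finite G]
    {M S : Subgroup G} (hM : IsMinNormal M) (hS : S.IsSubnormal) :
    M ≤ Subgroup.normalizer (S : Set G) :=
  (le_sSup (a := M) hM).trans (socle_le_normalizer_aux _ G rfl S hS)

theorem isSubnormal_sup_aux (n : ℕ) : ∀ (G : Type u) [Group G] [Finite G], Nat.card G = n →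
    ∀ A B : Subgroup G, A.IsSubnormal → B.IsSubnormal → (A ⊔ B).IsSubnormal := by
  induction n using Nat.strong_induction_on with
  | _ n ih =>
    intro G _ _ hcard A B hA hB
    rcases subsingleton_or_nontrivial G with hs | hnt
    · have : A ⊔ B = ⊤ := Subsingleton.elim _ _
      rw [this]; exact Subgroup.IsSubnormal.top
    obtain ⟨M, hM⟩ := exists_minNormal (G := G)
    have hMn : M.Normal := hM.1
    have hcardq : Nat.card (G ⧸ M) < n := by
      rw [← hcard]
      have h1 := Subgroup.card_mul_index M
      rw [Subgroup.index_eq_card] at h1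
      have h2 : 1 < Nat.card M := by
        rw [Subgroup.one_lt_card_iff_ne_bot]; exact hM.2.1
      have h3 : 0 < Nat.card (G ⧸ M) := Nat.card_pos
      nlinarith
    have h1 := ih _ hcardq (G ⧸ M) rfl _ _ (hA.quotient (K := M)) (hB.quotient (K := M))
    rw [← Subgroup.map_sup] at h1
    have h2 := h1.comap (QuotientGroup.mk' M)
    rw [Subgroup.comap_map_eq, QuotientGroup.ker_mk'] at h2
    refine Subgroup.IsSubnormal.step _ _ le_sup_left h2 ?_
    rw [Subgroup.normal_subgroupOf_iff_le_normalizer le_sup_left]
    apply sup_le Subgroup.le_normalizer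
    refine le_trans ?_ (Subgroup.normalizer_inf_normalizer_le_normalizer_sup A B)
    exact le_inf (hM.le_normalizer_of_isSubnormal hA) (hM.le_normalizer_of_isSubnormal hB)

/-- Wielandt: the join of two subnormal subgroups of a finite group is subnormal. -/
theorem isSubnormal_sup {G : Type*} [Group G] [Finite G] {A B : Subgroup G}
    (hA : A.IsSubnormal) (hB : B.IsSubnormal) : (A ⊔ B).IsSubnormal :=
  isSubnormal_sup_aux _ G rfl A B hA hB

theorem isSubnormal_sSup {G : Type*} [Group G] [Finite G] (S : Set (Subgroup G))
    (hS : ∀ U ∈ S, U.IsSubnormal) : (sSup S).IsSubnormal := by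
  have hfin : S.Finite := Set.toFinite S
  induction S, hfin using Set.Finite.induction_on with
  | empty => rw [sSup_empty]; exact Subgroup.IsSubnormal.bot
  | insert _ _ ih =>
    rw [sSup_insert]
    exact isSubnormal_sup (hS _ (Set.mem_insert _ _))
      (ih (fun U hU => hS U (Set.mem_insert_of_mem _ hU)))

end Cfsg.Agent.Lib.Helper12
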