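import Mathlib
import Cfsg.Agent.S0539

set_option autoImplicit false

namespace Cfsg.Agent.Lib.Helper12

open Pointwise

/-- Relative version of S0539 inside a subgroup `V`. -/
theorem exists_normalizes_sSup_rel {G : Type*} [Group G] [Finite G] (V : Subgroup G)
    (S S₀ : Set (Subgroup G)) (hle : ∀ U ∈ S, U ≤ V)
    (hS : ∀ U ∈ S, (U.subgroupOf V).IsSubnormal)
    (hconj : ∀ U ∈ S, ∀ g ∈ V, MulAut.conj g • U ∈ S) (h₀ : S₀ ⊂ S) :
    ∃ X ∈ S, X ∉ S₀ ∧ X ≤ Subgroup.normalizer ((sSup S₀ : Subgroup G) : Set G) := by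
  set f : Subgroup G → Subgroup V := fun U => U.subgroupOf V with hf
  have hmap : ∀ U ∈ S, (f U).map V.subtype = U := fun U hU =>
    Subgroup.map_subgroupOf_eq_of_le (hle U hU)
  have hinj : ∀ U ∈ S, ∀ U' ∈ S, f U = f U' → U = U' := by
    intro U hU U' hU' h
    rw [← hmap U hU, ← hmap U' hU', h]
  have h1 : ∀ U' ∈ f '' S, U'.IsSubnormal := by
    rintro _ ⟨U, hU, rfl⟩; exact hS U hU
  have h2 : ∀ U' ∈ f '' S, ∀ g : V, MulAut.conj g • U' ∈ f '' S := by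
    rintro _ ⟨U, hU, rfl⟩ g
    exact ⟨MulAut.conj (g : G) • U, hconj U hU g g.2,
      (Subgroup.conj_smul_subgroupOf (hle U hU) g).symm⟩
  have h3 : f '' S₀ ⊂ f '' S := by
    refine ⟨Set.image_mono h₀.1, ?_⟩
    intro h
    apply h₀.2
    intro U hU
    obtain ⟨U', hU', hUU'⟩ := h ⟨U, hU, rfl⟩
    have := hinj U' (h₀.1 hU') U hU hUU'
    rwa [← this]
  obtain ⟨X', ⟨X, hX, rfl⟩, hX0, hXn⟩ := Cfsg.Agent.S0539.result (f '' S) (f '' S₀) h1 h2 h3
  refine ⟨X, hX, fun h => hX0 ⟨X, h, rfl⟩, ?_⟩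
  have h4 : (sSup (f '' S₀)).map V.subtype = sSup S₀ := by
    apply le_antisymm
    · rw [sSup_eq_iSup, Subgroup.map_iSup]
      apply iSup_le
      intro U'
      rw [Subgroup.map_iSup]
      apply iSup_le
      rintro ⟨U, hU, rfl⟩
      rw [hmap U (h₀.1 hU)]
      exact le_sSup hU
    · apply sSup_le
      intro U hU
      rw [← hmap U (h₀.1 hU)]
      exact Subgroup.map_mono (le_sSup ⟨U, hU, rfl⟩)
  rw [← hmap X hX, ← h4]
  exact (Subgroup.map_mono hXn).trans (Subgroup.le_normalizer_map _)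

end Cfsg.Agent.Lib.Helper12
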