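import Mathlib

/-!
# Sharply triply transitive actions on an odd number of points: basic facts
-/

set_option autoImplicit false
set_option linter.unusedSectionVars false
set_option linter.unusedVariables false

namespace Cfsg.Agent.Lib.Helper12.S3T

/-- triply transitive, only the identity fixes three points -/
structure Sharp3 (G α : Type*) [Group G] [MulAction G α] : Prop where
  trans : ∀ a b c a' b' c' : α, a ≠ b → a ≠ c → b ≠ c → a' ≠ b' → a' ≠ c' → b' ≠ c' →
    ∃ g : G, g • a = a' ∧ g • b = b' ∧ g • c = c'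
  free : ∀ (g : G) (a b c : α), a ≠ b → a ≠ c → b ≠ c → g • a = a → g • b = b → g • c = c → g = 1

variable {G α : Type*} [Group G] [MulAction G α]

theorem Sharp3.ext (h : Sharp3 G α) {g g' : G} {a b c : α} (hab : a ≠ b) (hac : a ≠ c)
    (hbc : b ≠ c) (ha : g • a = g' • a) (hb : g • b = g' • b) (hc : g • c = g' • c) : g = g' := by
  have h1 : g'⁻¹ * g = 1 := h.free _ a b c hab hac hbc
    (by rw [mul_smul, ha, inv_smul_smul]) (by rw [mul_smul, hb, inv_smul_smul])
    (by rw [mul_smul, hc, inv_smul_smul])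
  exact (inv_mul_eq_one.1 h1).symm

/-- an involution has exactly one fixed point -/
theorem Sharp3.invol_fix [Finite α] (h : Sharp3 G α) (hodd : Odd (Nat.card α)) {t : G}
    (ht : t * t = 1) (ht1 : t ≠ 1) : ∃ x : α, t • x = x ∧ ∀ y, t • y = y → y = x := by
  classical
  haveI := Fintype.ofFinite α
  set σ : Equiv.Perm α := MulAction.toPerm t with hσ
  have hσ2 : σ ^ 2 = 1 := by
    ext x
    simp [hσ, sq, ← mul_smul, ht]
  have h2 := Equiv.Perm.two_dvd_card_support hσ2
  have hmem : ∀ x, x ∈ σ.supportᶜ ↔ t • x = x := by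
    intro x
    simp [hσ, Equiv.Perm.mem_support]
  have hcard : Odd (σ.supportᶜ).card := by
    rw [Finset.card_compl]
    rw [Nat.card_eq_fintype_card] at hodd
    have hle : σ.support.card ≤ Fintype.card α := Finset.card_le_univ _
    obtain ⟨k, hk⟩ := h2
    obtain ⟨m, hm⟩ := hodd
    exact ⟨m - k, by omega⟩
  have hne : (σ.supportᶜ).Nonempty := by
    rw [← Finset.card_pos]
    exact hcard.pos
  obtain ⟨x, hx⟩ := hne
  refine ⟨x, (hmem x).1 hx, fun y hy => ?_⟩
  by_contra hyx
  have h1 : 1 < (σ.supportᶜ).card := Finset.one_lt_card.2 ⟨y, (hmem y).2 hy, x, hx, hyx⟩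
  have h3 : 2 < (σ.supportᶜ).card := by
    obtain ⟨m, hm⟩ := hcard
    omega
  obtain ⟨a, ha, b, hb, c, hc, hab, hac, hbc⟩ := Finset.two_lt_card.1 h3
  exact ht1 (h.free t a b c hab hac hbc ((hmem a).1 ha) ((hmem b).1 hb) ((hmem c).1 hc))

/-- the candidate regular normal subgroup of the stabiliser of `i` -/
def IsN (i : α) (g : G) : Prop := g • i = i ∧ g * g = 1

theorem IsN.one (i : α) : IsN i (1 : G) := ⟨one_smul _ _, one_mul _⟩

theorem IsN.inv_eq {i : α} {g : G} (hg : IsN i g) : g⁻¹ = g := inv_eq_of_mul_eq_one_left hg.2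

theorem IsN.ne {i : α} {g : G} (hg : IsN i g) {y : α} (hy : y ≠ i) : g • y ≠ i := by
  intro hh
  exact hy (smul_left_cancel g (hh.trans hg.1.symm))

theorem IsN.conj {i : α} {g : G} (hg : IsN i g) {b : G} (hb : b • i = i) :
    IsN i (b * g * b⁻¹) := by
  have hb' : b⁻¹ • i = i := by rw [inv_smul_eq_iff, hb]
  refine ⟨by rw [mul_smul, mul_smul, hb', hg.1, hb], ?_⟩
  calc b * g * b⁻¹ * (b * g * b⁻¹) = b * (g * g) * b⁻¹ := by group
    _ = 1 := by rw [hg.2]; group

section
variable [Finite α] (h : Sharp3 G α) (hodd : Odd (Nat.card α))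
include h hodd

theorem IsN.eq_one {i : α} {g : G} (hg : IsN i g) {y : α} (hy : y ≠ i) (hgy : g • y = y) :
    g = 1 := by
  by_contra hne
  obtain ⟨x, -, hx⟩ := h.invol_fix hodd hg.2 hne
  exact hy ((hx y hgy).trans (hx i hg.1).symm)

theorem IsN.unique {i : α} {g g' : G} (hg : IsN i g) (hg' : IsN i g') {y : α} (hy : y ≠ i)
    (hgy : g • y = g' • y) : g = g' := by
  by_cases hx : g • y = y
  · rw [hg.eq_one h hodd hy hx, hg'.eq_one h hodd hy (hgy ▸ hx)]
  · have h1 : g • (g • y) = y := by rw [← mul_smul, hg.2, one_smul]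
    have h2 : g' • (g • y) = y := by rw [hgy, ← mul_smul, hg'.2, one_smul]
    exact h.ext (Ne.symm hy) (Ne.symm (hg.ne hy)) (Ne.symm hx) (hg.1.trans hg'.1.symm) hgy
      (h1.trans h2.symm)

omit hodd [Finite α] in
theorem IsN.exists {i : α} {y x : α} (hy : y ≠ i) (hx : x ≠ i) : ∃ g : G, IsN i g ∧ g • y = x := by
  by_cases hxy : x = y
  · exact ⟨1, IsN.one i, by rw [one_smul, hxy]⟩
  · obtain ⟨g, h1, h2, h3⟩ := h.trans i y x i x y (Ne.symm hy) (Ne.symm hx) (Ne.symm hxy)
      (Ne.symm hx) (Ne.symm hy) hxy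
    refine ⟨g, ⟨h1, ?_⟩, h2⟩
    exact h.free _ i y x (Ne.symm hy) (Ne.symm hx) (Ne.symm hxy)
      (by rw [mul_smul, h1, h1]) (by rw [mul_smul, h2, h3]) (by rw [mul_smul, h3, h2])

/-- if `k ≠ 1` fixes `i` and `z`, every `n k` with `n` in `N` has a fixed point other than `i` -/
theorem IsN.exists_fix {i z : α} (hz : z ≠ i) {k : G} (hki : k • i = i) (hkz : k • z = z)
    (hk1 : k ≠ 1) {n : G} (hn : IsN i n) : ∃ y, y ≠ i ∧ (n * k) • y = y := by
  classical
  have hk : ∀ y, y ≠ i → k • y ≠ i := fun y hy hh => hy (smul_left_cancel k (hh.trans hki.symm))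
  choose τ hτN hτ using fun y : {y : α // y ≠ i} => IsN.exists (G := G) h (hk y.1 y.2) y.2
  let Φ : {y : α // y ≠ i} → {y : α // y ≠ i} := fun y => ⟨τ y • z, (hτN y).ne hz⟩
  have hinj : Function.Injective Φ := by
    intro y y' hyy
    have h1 : τ y • z = τ y' • z := congrArg Subtype.val hyy
    have h2 : τ y = τ y' := (hτN y).unique h hodd (hτN y') hz h1
    by_contra hne
    have hne' : y.1 ≠ y'.1 := fun hh => hne (Subtype.ext hh)
    have h3 : τ y * k = 1 := h.free _ i y.1 y'.1 (Ne.symm y.2) (Ne.symm y'.2) hne'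
      (by rw [mul_smul, hki, (hτN y).1]) (by rw [mul_smul, hτ y])
      (by rw [mul_smul, h2, hτ y'])
    have h4 : k = τ y := by
      rw [← (hτN y).inv_eq]
      exact (inv_eq_of_mul_eq_one_right h3).symm
    exact hk1 ((h4 ▸ hτN y : IsN i k).eq_one h hodd hz hkz)
  obtain ⟨y, hy⟩ := (Finite.injective_iff_surjective.1 hinj) ⟨n • z, hn.ne hz⟩
  have h1 : τ y • z = n • z := congrArg Subtype.val hy
  have h2 : τ y = n := (hτN y).unique h hodd hn hz h1
  exact ⟨y.1, y.2, by rw [mul_smul, ← h2, hτ y]⟩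

/-- `N` is closed under multiplication -/
theorem IsN.mul {i z : α} (hz : z ≠ i) {s t : G} (hs : IsN i s) (ht : IsN i t) :
    IsN i (s * t) := by
  have hgi : (s * t) • i = i := by rw [mul_smul, ht.1, hs.1]
  have hgz : (s * t) • z ≠ i := by rw [mul_smul]; exact hs.ne (ht.ne hz)
  obtain ⟨n, hn, hnz⟩ := IsN.exists (G := G) h hz hgz
  by_cases hk1 : n * (s * t) = 1
  · have : s * t = n := by
      rw [← hn.inv_eq]
      exact (inv_eq_of_mul_eq_one_right hk1).symm
    rw [this]; exact hn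
  · exfalso
    have hki : (n * (s * t)) • i = i := by rw [mul_smul, hgi, hn.1]
    have hkz : (n * (s * t)) • z = z := by
      rw [mul_smul, ← hnz, ← mul_smul, hn.2, one_smul]
    obtain ⟨y, hy, hfix⟩ := IsN.exists_fix h hodd hz hki hkz hk1 hn
    have h1 : (s * t) • y = y := by
      have : n * (n * (s * t)) = s * t := by rw [← mul_assoc, hn.2, one_mul]
      rw [this] at hfix
      exact hfix
    have h2 : t • y = s • y := by
      have : s • (s • (t • y)) = s • y := by rw [← mul_smul s t, h1]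
      rwa [← mul_smul, hs.2, one_smul] at this
    have h3 : t = s := ht.unique h hodd hs hy h2
    apply hk1
    rw [h3, hs.2, mul_one]
    rw [h3, hs.2, one_smul] at hnz
    exact hn.eq_one h hodd hz hnz

/-- every element interchanging `i` and `z` is an involution -/
theorem swap_sq {i z e : α} (hiz : i ≠ z) (hie : i ≠ e) (hze : z ≠ e) {g : G} (hgi : g • i = z)
    (hgz : g • z = i) : g * g = 1 := by
  classical
  have key : ∀ x : {x : α // x ≠ i ∧ x ≠ z}, ∃ t : G, t • i = z ∧ t • z = i ∧ t • x.1 = x.1 :=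
    fun x => h.trans i z x.1 z i x.1 hiz (Ne.symm x.2.1) (Ne.symm x.2.2) (Ne.symm hiz)
      (Ne.symm x.2.2) (Ne.symm x.2.1)
  choose τ h1 h2 h3 using key
  have hsq : ∀ x, τ x * τ x = 1 := fun x =>
    h.free _ i z x.1 hiz (Ne.symm x.2.1) (Ne.symm x.2.2) (by rw [mul_smul, h1, h2])
      (by rw [mul_smul, h2, h1]) (by rw [mul_smul, h3, h3])
  have hne1 : ∀ x, τ x ≠ 1 := fun x hh => hiz (by have := h1 x; rwa [hh, one_smul] at this)
  have hout : ∀ t : G, t • i = z → t • z = i → t • e ≠ i ∧ t • e ≠ z := fun t a b =>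
    ⟨fun hh => hze (smul_left_cancel t (b.trans hh.symm)),
      fun hh => hie (smul_left_cancel t (a.trans hh.symm))⟩
  let Φ : {x : α // x ≠ i ∧ x ≠ z} → {x : α // x ≠ i ∧ x ≠ z} :=
    fun x => ⟨τ x • e, hout _ (h1 x) (h2 x)⟩
  have hinj : Function.Injective Φ := by
    intro x x' hxx
    have e1 : τ x • e = τ x' • e := congrArg Subtype.val hxx
    have e2 : τ x = τ x' := h.ext hiz hie hze ((h1 x).trans (h1 x').symm)
      ((h2 x).trans (h2 x').symm) e1
    obtain ⟨y, -, hy⟩ := h.invol_fix hodd (hsq x) (hne1 x)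
    exact Subtype.ext ((hy _ (h3 x)).trans (hy _ (e2 ▸ h3 x')).symm)
  obtain ⟨x, hx⟩ := (Finite.injective_iff_surjective.1 hinj) ⟨g • e, hout g hgi hgz⟩
  have e1 : τ x • e = g • e := congrArg Subtype.val hx
  have e2 : τ x = g := h.ext hiz hie hze ((h1 x).trans hgi.symm) ((h2 x).trans hgz.symm) e1
  rw [← e2]; exact hsq x

/-- an element interchanging `i` and `z` inverts the stabiliser of `i` and `z` -/
theorem swap_inverts {i z e : α} (hiz : i ≠ z) (hie : i ≠ e) (hze : z ≠ e) {w : G}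
    (hwi : w • i = z) (hwz : w • z = i) {k : G} (hki : k • i = i) (hkz : k • z = z) :
    w * k * w = k⁻¹ := by
  have h1 : (w * k) * (w * k) = 1 := swap_sq h hodd hiz hie hze
    (by rw [mul_smul, hki, hwi]) (by rw [mul_smul, hkz, hwz])
  have : w * k * w * k = 1 := by rw [← h1]; group
  exact eq_inv_of_mul_eq_one_left this

/-- the stabiliser of two points is commutative -/
theorem stab_comm {i z e : α} (hiz : i ≠ z) (hie : i ≠ e) (hze : z ≠ e) {k l : G}
    (hki : k • i = i) (hkz : k • z = z) (hli : l • i = i) (hlz : l • z = z) : k * l = l * k := by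
  obtain ⟨w, hwi, hwz, -⟩ := h.trans i z e z i e hiz hie hze (Ne.symm hiz) hze hie
  have hw2 : w * w = 1 := swap_sq h hodd hiz hie hze hwi hwz
  have h1 := swap_inverts h hodd hiz hie hze hwi hwz hki hkz
  have h2 := swap_inverts h hodd hiz hie hze hwi hwz hli hlz
  have h3 := swap_inverts h hodd hiz hie hze hwi hwz (k := k * l)
    (by rw [mul_smul, hli, hki]) (by rw [mul_smul, hlz, hkz])
  have h4 : w * (k * l) * w = (w * k * w) * (w * l * w) := by
    calc w * (k * l) * w = w * k * 1 * l * w := by group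
      _ = w * k * (w * w) * l * w := by rw [hw2]
      _ = (w * k * w) * (w * l * w) := by group
  rw [h4, h1, h2, mul_inv_rev] at h3
  have h5 : (k⁻¹ * l⁻¹)⁻¹ = (l⁻¹ * k⁻¹)⁻¹ := by rw [h3]
  simpa [mul_inv_rev] using h5.symm

end

end Cfsg.Agent.Lib.Helper12.S3T
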