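import Cfsg.Agent.Lib.Helper12.S3TBasic

/-!
# The field attached to a sharply triply transitive action on an odd number of points
-/

set_option autoImplicit false
set_option linter.unusedSectionVars false
set_option linter.unusedVariables false

namespace Cfsg.Agent.Lib.Helper12.S3T

/-- a sharply triply transitive action on an odd number of points with three base points -/
structure Frame (G α : Type*) [Group G] [MulAction G α] where
  i : α
  z : α
  e : α
  hiz : i ≠ z
  hie : i ≠ e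
  hze : z ≠ e
  sharp : Sharp3 G α
  odd : Odd (Nat.card α)

variable {G α : Type*} [Group G] [MulAction G α] [Finite α] (D : Frame G α)

namespace Frame

/-- the affine points -/
abbrev A : Type _ := {x : α // x ≠ D.i}

/-- translations -/
noncomputable def T (x : D.A) : G := Classical.choose (IsN.exists D.sharp (Ne.symm D.hiz) x.2)

omit [Finite α] in
theorem T_N (x : D.A) : IsN D.i (D.T x) :=
  (Classical.choose_spec (IsN.exists D.sharp (Ne.symm D.hiz) x.2)).1

omit [Finite α] in
theorem T_z (x : D.A) : D.T x • D.z = x.1 :=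
  (Classical.choose_spec (IsN.exists D.sharp (Ne.symm D.hiz) x.2)).2

theorem T_unique {g : G} (hg : IsN D.i g) (x : D.A) (hgx : g • D.z = x.1) : g = D.T x :=
  hg.unique D.sharp D.odd (D.T_N x) (Ne.symm D.hiz) (hgx.trans (D.T_z x).symm)

open Classical in
/-- dilations -/
noncomputable def S (x : D.A) : G :=
  if hx : x.1 = D.z then 1 else
    Classical.choose (D.sharp.trans D.i D.z D.e D.i D.z x.1 D.hiz D.hie D.hze D.hiz (Ne.symm x.2)
      (Ne.symm hx))

omit [Finite α] in
theorem S_i (x : D.A) : D.S x • D.i = D.i := by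
  unfold S
  split_ifs with hx
  · exact one_smul _ _
  · exact (Classical.choose_spec (D.sharp.trans D.i D.z D.e D.i D.z x.1 D.hiz D.hie D.hze D.hiz
      (Ne.symm x.2) (Ne.symm hx))).1

omit [Finite α] in
theorem S_z (x : D.A) : D.S x • D.z = D.z := by
  unfold S
  split_ifs with hx
  · exact one_smul _ _
  · exact (Classical.choose_spec (D.sharp.trans D.i D.z D.e D.i D.z x.1 D.hiz D.hie D.hze D.hiz
      (Ne.symm x.2) (Ne.symm hx))).2.1

omit [Finite α] in
theorem S_e (x : D.A) (hx : x.1 ≠ D.z) : D.S x • D.e = x.1 := by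
  unfold S
  rw [dif_neg hx]
  exact (Classical.choose_spec (D.sharp.trans D.i D.z D.e D.i D.z x.1 D.hiz D.hie D.hze D.hiz
      (Ne.symm x.2) (Ne.symm hx))).2.2

omit [Finite α] in
theorem S_unique {g : G} (hgi : g • D.i = D.i) (hgz : g • D.z = D.z) (x : D.A) (hx : x.1 ≠ D.z)
    (hge : g • D.e = x.1) : g = D.S x :=
  D.sharp.ext D.hiz D.hie D.hze (hgi.trans (D.S_i x).symm) (hgz.trans (D.S_z x).symm)
    (hge.trans (D.S_e x hx).symm)

omit [Finite α] in
theorem S_ne_i (x : D.A) {y : α} (hy : y ≠ D.i) : D.S x • y ≠ D.i :=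
  fun hh => hy (smul_left_cancel _ (hh.trans (D.S_i x).symm))

omit [Finite α] in
theorem S_ne_z (x : D.A) {y : α} (hy : y ≠ D.z) : D.S x • y ≠ D.z :=
  fun hh => hy (smul_left_cancel _ (hh.trans (D.S_z x).symm))

/-- zero -/
def zero : D.A := ⟨D.z, Ne.symm D.hiz⟩
/-- one -/
def one : D.A := ⟨D.e, Ne.symm D.hie⟩
/-- addition -/
noncomputable def add (x y : D.A) : D.A := ⟨D.T x • y.1, (D.T_N x).ne y.2⟩

open Classical in
/-- multiplication -/
noncomputable def mul (x y : D.A) : D.A :=
  ⟨if x.1 = D.z then D.z else D.S x • y.1, by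
    split_ifs
    · exact Ne.symm D.hiz
    · exact D.S_ne_i x y.2⟩

open Classical in
/-- inversion -/
noncomputable def inv (x : D.A) : D.A :=
  ⟨if x.1 = D.z then D.z else (D.S x)⁻¹ • D.e, by
    split_ifs
    · exact Ne.symm D.hiz
    · intro hh
      rw [inv_smul_eq_iff, D.S_i] at hh
      exact D.hie hh.symm⟩

theorem T_add (x y : D.A) : D.T (D.add x y) = D.T x * D.T y :=
  (D.T_unique (IsN.mul D.sharp D.odd (Ne.symm D.hiz) (D.T_N x) (D.T_N y)) _
    (by rw [mul_smul, D.T_z]; rfl)).symm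

theorem T_zero : D.T D.zero = 1 := (D.T_unique (IsN.one _) D.zero (one_smul _ _)).symm

theorem add_assoc' (a b c : D.A) : D.add (D.add a b) c = D.add a (D.add b c) := by
  apply Subtype.ext
  show D.T (D.add a b) • c.1 = D.T a • (D.T b • c.1)
  rw [T_add, mul_smul]

theorem zero_add' (a : D.A) : D.add D.zero a = a := by
  apply Subtype.ext
  show D.T D.zero • a.1 = a.1
  rw [T_zero, one_smul]

omit [Finite α] in
theorem add_self' (a : D.A) : D.add a a = D.zero := by
  apply Subtype.ext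
  show D.T a • a.1 = D.z
  calc D.T a • a.1 = D.T a • (D.T a • D.z) := by rw [D.T_z]
    _ = D.z := by rw [← mul_smul, (D.T_N a).2, one_smul]

omit [Finite α] in
theorem mul_val_of_eq {x : D.A} (hx : x.1 = D.z) (y : D.A) : (D.mul x y).1 = D.z := if_pos hx

omit [Finite α] in
theorem mul_val_of_ne {x : D.A} (hx : x.1 ≠ D.z) (y : D.A) : (D.mul x y).1 = D.S x • y.1 :=
  if_neg hx

omit [Finite α] in
theorem mul_val_zero (x : D.A) {y : D.A} (hy : y.1 = D.z) : (D.mul x y).1 = D.z := by
  by_cases hx : x.1 = D.z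
  · exact D.mul_val_of_eq hx y
  · rw [D.mul_val_of_ne hx, hy, D.S_z]

omit [Finite α] in
theorem mul_ne {x y : D.A} (hx : x.1 ≠ D.z) (hy : y.1 ≠ D.z) : (D.mul x y).1 ≠ D.z := by
  rw [D.mul_val_of_ne hx]
  exact D.S_ne_z x hy

omit [Finite α] in
theorem S_mul {x y : D.A} (hx : x.1 ≠ D.z) (hy : y.1 ≠ D.z) :
    D.S (D.mul x y) = D.S x * D.S y :=
  (D.S_unique (by rw [mul_smul, D.S_i, D.S_i]) (by rw [mul_smul, D.S_z, D.S_z]) _ (D.mul_ne hx hy)
    (by rw [mul_smul, D.S_e y hy, D.mul_val_of_ne hx])).symm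

omit [Finite α] in
theorem mul_assoc' (a b c : D.A) : D.mul (D.mul a b) c = D.mul a (D.mul b c) := by
  apply Subtype.ext
  by_cases ha : a.1 = D.z
  · rw [D.mul_val_of_eq ha, D.mul_val_of_eq (D.mul_val_of_eq ha b)]
  · by_cases hb : b.1 = D.z
    · rw [D.mul_val_of_eq (D.mul_val_zero a hb), D.mul_val_zero a (D.mul_val_of_eq hb c)]
    · rw [D.mul_val_of_ne (D.mul_ne ha hb), D.S_mul ha hb, D.mul_val_of_ne ha,
        D.mul_val_of_ne hb, mul_smul]

theorem mul_comm' (a b : D.A) : D.mul a b = D.mul b a := by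
  apply Subtype.ext
  by_cases ha : a.1 = D.z
  · rw [D.mul_val_of_eq ha, D.mul_val_zero b ha]
  · by_cases hb : b.1 = D.z
    · rw [D.mul_val_of_eq hb, D.mul_val_zero a hb]
    · rw [D.mul_val_of_ne ha, D.mul_val_of_ne hb]
      calc D.S a • b.1 = (D.S a * D.S b) • D.e := by rw [mul_smul, D.S_e b hb]
        _ = (D.S b * D.S a) • D.e := by
            rw [stab_comm D.sharp D.odd D.hiz D.hie D.hze (D.S_i a) (D.S_z a) (D.S_i b) (D.S_z b)]
        _ = D.S b • a.1 := by rw [mul_smul, D.S_e a ha]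

omit [Finite α] in
theorem S_one : D.S D.one = 1 :=
  (D.S_unique (one_smul _ _) (one_smul _ _) D.one (Ne.symm D.hze) (one_smul _ _)).symm

omit [Finite α] in
theorem one_mul' (a : D.A) : D.mul D.one a = a := by
  apply Subtype.ext
  rw [D.mul_val_of_ne (x := D.one) (Ne.symm D.hze), S_one, one_smul]

omit [Finite α] in
theorem inv_val_of_ne {x : D.A} (hx : x.1 ≠ D.z) : (D.inv x).1 = (D.S x)⁻¹ • D.e := if_neg hx

omit [Finite α] in
theorem mul_inv_cancel' (a : D.A) (ha : a ≠ D.zero) : D.mul a (D.inv a) = D.one := by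
  have ha' : a.1 ≠ D.z := fun hh => ha (Subtype.ext hh)
  apply Subtype.ext
  rw [D.mul_val_of_ne ha', D.inv_val_of_ne ha', smul_inv_smul]
  rfl

omit [Finite α] in
theorem inv_zero' : D.inv D.zero = D.zero := Subtype.ext (if_pos rfl)

theorem left_distrib' (a b c : D.A) :
    D.mul a (D.add b c) = D.add (D.mul a b) (D.mul a c) := by
  by_cases ha : a.1 = D.z
  · have h1 : ∀ y, D.mul a y = D.zero := fun y => Subtype.ext (D.mul_val_of_eq ha y)
    rw [h1, h1, h1, zero_add']
  · apply Subtype.ext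
    rw [D.mul_val_of_ne ha]
    show D.S a • (D.T b • c.1) = D.T (D.mul a b) • (D.mul a c).1
    rw [D.mul_val_of_ne ha]
    have h1 : D.S a * D.T b * (D.S a)⁻¹ = D.T (D.mul a b) := by
      apply D.T_unique ((D.T_N b).conj (D.S_i a))
      have : (D.S a)⁻¹ • D.z = D.z := by rw [inv_smul_eq_iff, D.S_z]
      rw [mul_smul, mul_smul, this, D.T_z, D.mul_val_of_ne ha]
    rw [← h1, mul_smul, mul_smul, inv_smul_smul]

/-- the field structure -/
@[reducible] noncomputable def field : Field D.A :=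
  letI : Add D.A := ⟨D.add⟩
  letI : Mul D.A := ⟨D.mul⟩
  letI : Neg D.A := ⟨id⟩
  letI : Inv D.A := ⟨D.inv⟩
  letI : Zero D.A := ⟨D.zero⟩
  letI : One D.A := ⟨D.one⟩
  Field.ofMinimalAxioms D.A D.add_assoc' D.zero_add' D.add_self' D.mul_assoc' D.mul_comm'
    D.one_mul' D.mul_inv_cancel' D.inv_zero' D.left_distrib'
    ⟨D.zero, D.one, fun hh => D.hze (congrArg Subtype.val hh)⟩

theorem field_add (x y : D.A) : letI := D.field; x + y = D.add x y := rfl
theorem field_zero : letI := D.field; (0 : D.A) = D.zero := rfl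
theorem field_one : letI := D.field; (1 : D.A) = D.one := rfl
theorem field_neg (x : D.A) : letI := D.field; -x = x := rfl
theorem field_inv (x : D.A) : letI := D.field; x⁻¹ = D.inv x := rfl
theorem field_mul (x y : D.A) : letI := D.field; x * y = D.mul x y := rfl

end Frame

end Cfsg.Agent.Lib.Helper12.S3T
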