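import Cfsg.Agent.Lib.Helper12.S3TMain

/-!
# Interfaces for the sharply triply transitive recognition theorem
-/

set_option autoImplicit false
set_option linter.unusedSectionVars false
set_option linter.unusedVariables false

namespace Cfsg.Agent.Lib.Helper12.S3T

open Matrix

theorem sharp3_of_multiply {G α : Type*} [Group G] [MulAction G α]
    (h3 : MulAction.IsMultiplyPretransitive G α 3)
    (free : ∀ (g : G) (a b c : α), a ≠ b → a ≠ c → b ≠ c → g • a = a → g • b = b → g • c = c →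
      g = 1) : Sharp3 G α := by
  refine ⟨?_, free⟩
  intro a b c a' b' c' hab hac hbc hab' hac' hbc'
  obtain ⟨g, hg⟩ := MulAction.exists_smul_eq G (emb3 a b c hab hac hbc) (emb3 a' b' c' hab' hac' hbc')
  exact ⟨g, DFunLike.congr_fun hg 0, DFunLike.congr_fun hg 1, DFunLike.congr_fun hg 2⟩

theorem psl_equiv_pgl (F : Type*) [Field F] [Fintype F] [CharP F 2] :
    Nonempty (ProjectiveSpecialLinearGroup (Fin 2) F ≃* ProjGenLinGroup (Fin 2) F) := by
  refine ⟨MulEquiv.ofBijective ProjectiveSpecialLinearGroup.toPGL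
    ⟨ProjectiveSpecialLinearGroup.toPGL_injective,
      ProjectiveSpecialLinearGroup.toPGL_surj_of_roots fun r => ?_⟩⟩
  obtain ⟨k, hk⟩ := FiniteField.isSquare_of_char_two (ringChar.eq F 2) (r : F)
  have hk0 : k ≠ 0 := by
    rintro rfl
    simp at hk
  refine ⟨Units.mk0 k hk0, ?_⟩
  ext
  simp [hk, sq]

theorem card_pow_two (F : Type*) [Field F] [Fintype F] [CharP F 2] :
    ∃ a : ℕ, 1 ≤ a ∧ Fintype.card F = 2 ^ a := by
  obtain ⟨n, -, hn⟩ := FiniteField.card F 2
  exact ⟨n, n.pos, hn⟩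

end Cfsg.Agent.Lib.Helper12.S3T
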