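import Cfsg.Agent.S0741

/-!
# Zassenhaus groups with two-point stabiliser of even order `(n-1)/2`: the swapping involution
inverts the two-point stabiliser
-/

set_option autoImplicit false
open Cfsg

namespace Cfsg.Agent.Lib.Helper12.Zass

open Cfsg.Agent.Lib.Helper16 MulAction

theorem inv_even {G Ω : Type*} [Group G] [Finite G] [MulAction G Ω] [Finite Ω]
    (hZ : Cfsg.IsZassenhausGroup G Ω) {a b : Ω} (hab : a ≠ b)
    (heven : Even (Nat.card ↥(stabilizer G a ⊓ stabilizer G b)))
    (hcard : 2 * Nat.card ↥(stabilizer G a ⊓ stabilizer G b) + 2 = Nat.card Ω) :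
    ∃ w : G, w • a = b ∧ w • b = a ∧ w * w = 1 ∧
      ∀ h ∈ stabilizer G a ⊓ stabilizer G b, w * h * w⁻¹ = h⁻¹ := by
  classical
  have := Fintype.ofFinite Ω
  obtain ⟨hfaith, h2, h3, _, _⟩ := hZ
  have : Fact (Nat.Prime 2) := ⟨Nat.prime_two⟩
  obtain ⟨u, hu⟩ := exists_prime_orderOf_dvd_card' (G := ↥(stabilizer G a ⊓ stabilizer G b)) 2
    (even_iff_two_dvd.mp heven)
  have hu' : orderOf (u : G) = 2 := by rw [Subgroup.orderOf_coe, hu]
  have hmem := u.2
  rw [Subgroup.mem_inf, mem_stabilizer_iff, mem_stabilizer_iff] at hmem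
  have inv : ∀ x y : Ω, x ≠ y → ∃ t : G, orderOf t = 2 ∧ t • x = x ∧ t • y = y := by
    intro x y hxy
    obtain ⟨g, h1, h2'⟩ := (is_two_pretransitive_iff (G := G) (α := Ω)).mp h2 hab hxy
    refine ⟨g * u * g⁻¹, ?_, ?_, ?_⟩
    · have : g * (u : G) * g⁻¹ = MulAut.conj g (u : G) := rfl
      rw [this, MulEquiv.orderOf_eq, hu']
    · rw [mul_smul, mul_smul, ← h1, inv_smul_smul, hmem.1]
    · rw [mul_smul, mul_smul, ← h2', inv_smul_smul, hmem.2]
  have := Fintype.ofFinite G
  let X : Finset G := Finset.univ.filter (fun t => orderOf t = 2 ∧ t • a = b ∧ t • b = a)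
  let f : G → Finset Ω := fun t => Finset.univ.filter (fun c => t • c = c)
  have hcover : Finset.univ \ {a, b} ⊆ X.biUnion f := by
    intro c hc
    simp only [Finset.mem_sdiff, Finset.mem_univ, true_and, Finset.mem_insert,
      Finset.mem_singleton, not_or] at hc
    obtain ⟨t, ht1, ht2, ht3, ht4⟩ := Cfsg.Agent.S0741.exists_involution_fix_swap h3 inv a b c hab
      (Ne.symm hc.1) (Ne.symm hc.2)
    rw [Finset.mem_biUnion]
    exact ⟨t, by simp [X, ht1, ht2, ht3], by simp [f, ht4]⟩
  have hf : ∀ t ∈ X, (f t).card ≤ 2 := by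
    intro t ht
    simp only [X, Finset.mem_filter, Finset.mem_univ, true_and] at ht
    by_contra hcon
    push Not at hcon
    obtain ⟨x, hx, y, hy, z, hz, hxy, hxz, hyz⟩ := Finset.two_lt_card.mp hcon
    simp only [f, Finset.mem_filter, Finset.mem_univ, true_and] at hx hy hz
    have := h3 t x y z hxy hyz hxz hx hy hz
    rw [this, orderOf_one] at ht
    omega
  have h4 := Finset.card_le_card hcover
  have h5 := Finset.card_biUnion_le_card_mul X f 2 hf
  rw [Finset.card_sdiff_of_subset (Finset.subset_univ _), Finset.card_univ,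
    Finset.card_pair hab] at h4
  rw [Nat.card_eq_fintype_card (α := Ω)] at hcard
  have hXge : Nat.card ↥(stabilizer G a ⊓ stabilizer G b) ≤ X.card := by omega
  have hpos : 0 < Nat.card ↥(stabilizer G a ⊓ stabilizer G b) := Nat.card_pos
  obtain ⟨t0, ht0⟩ : X.Nonempty := Finset.card_pos.1 (by omega)
  simp only [X, Finset.mem_filter, Finset.mem_univ, true_and] at ht0
  let φ : X → ↥(stabilizer G a ⊓ stabilizer G b) := fun t => ⟨t0⁻¹ * t, by
    have ht := t.2
    simp only [X, Finset.mem_filter, Finset.mem_univ, true_and] at ht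
    rw [Subgroup.mem_inf, mem_stabilizer_iff, mem_stabilizer_iff, mul_smul, mul_smul,
      ht.2.1, ht.2.2, inv_smul_eq_iff, inv_smul_eq_iff, ht0.2.1, ht0.2.2]
    exact ⟨rfl, rfl⟩⟩
  have hφ : Function.Injective φ := by
    intro t t' h
    have := congrArg Subtype.val h
    simp only [φ, mul_right_inj] at this
    exact Subtype.ext this
  have hφs : Function.Surjective φ := by
    have hb : Function.Bijective φ := by
      rw [Fintype.bijective_iff_injective_and_card]
      refine ⟨hφ, ?_⟩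
      have h6 := Fintype.card_le_of_injective φ hφ
      rw [Fintype.card_coe] at h6 ⊢
      rw [Nat.card_eq_fintype_card] at hXge
      omega
    exact hb.2
  have ht02 : t0 * t0 = 1 := by
    rw [← pow_two, ← ht0.1]; exact pow_orderOf_eq_one t0
  have ht0i : t0⁻¹ = t0 := inv_eq_of_mul_eq_one_left ht02
  refine ⟨t0, ht0.2.1, ht0.2.2, ht02, ?_⟩
  intro h hh
  obtain ⟨t, ht⟩ := hφs ⟨h, hh⟩
  have ht' : t0⁻¹ * (t : G) = h := congrArg Subtype.val ht
  have htX := t.2
  simp only [X, Finset.mem_filter, Finset.mem_univ, true_and] at htX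
  have ht2 : (t : G) * t = 1 := by
    rw [← pow_two, ← htX.1]; exact pow_orderOf_eq_one _
  have hte : (t : G) = t0 * h := by rw [← ht', mul_inv_cancel_left]
  rw [hte] at ht2
  rw [ht0i]
  apply eq_inv_of_mul_eq_one_left
  calc t0 * h * t0 * h = t0 * h * (t0 * h) := by group
    _ = 1 := ht2

end Cfsg.Agent.Lib.Helper12.Zass
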